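import Cfsg.Agent.Components.Signalizer.Sft.Central

/-!
The solvable signalizer functor theorem.
-/

set_option linter.style.haveILetI false
set_option linter.unusedSectionVars false

namespace Cfsg.Lib.Sft

open Subgroup Cfsg.Lib.Coprime Cfsg.Lib.Signalizer
open scoped commutatorElement

universe u

section Contradiction

variable {G : Type u} [Group G] [Finite G] {p : ℕ} [hp : Fact p.Prime] {A : Subgroup G}
  {θ : G → Subgroup G}

local notation "𝓕" => Cfsg.signalizerFamily p A θ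
local notation "T" => Cfsg.signalizerInf A θ

/-- a non-trivial moved part of a witness for an odd prime makes `h` fine for every prime -/
theorem fine_of_odd_witness (S : Critical p A θ) {h : G} (hh : h ∈ A) (hh1 : h ≠ 1) {M : Subgroup G}
    (hM : M ∈ 𝓕) (hθM : θ h ≤ M) {s : ℕ} [Fact s.Prime] (hs2 : s ≠ 2)
    (hs : ¬ qcore s M ≤ centralizer ({h} : Set G)) {q : ℕ} [Fact q.Prime] (hPq : good p q A θ ≠ ⊥) :
    good p s A θ ≠ ⊥ ∧ Fine p q A θ h := by
  set U := qcore s M
  have hU : U ∈ 𝓕 := qcore_mem_family hM s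
  set M₁ := ⁅U, zpowers h⁆ with hMdef
  have hM₁ : M₁ ∈ 𝓕 := commutator_mem_family S.toSetting hU hh
  have hM₁P : M₁ ≤ good p s A θ :=
    good_of_witness S.toSetting hh hh1 hM hθM le_rfl (le_normalizer_of_mem_family hU) (Or.inl hs2)
  have hM₁ne : M₁ ≠ ⊥ := fun e => hs fun x hx => mem_centralizer_singleton_iff.mpr
    (mem_centralizer_iff.mp (commutator_eq_bot_iff_le_centralizer.mp e hx) h (mem_zpowers h)).symm
  refine ⟨fun e => hM₁ne (eq_bot_iff.mpr (e ▸ hM₁P)), ?_⟩
  by_cases hsq : s = q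
  · subst hsq
    exact ⟨U, hU, isPGroup_qcore, fun e => hM₁ne (by rw [hMdef, e, commutator_bot_left]),
      hθM.trans (le_normalizer.trans le_normalizer_qcore)⟩
  obtain ⟨H, hH, -, hHmax⟩ := exists_greatest S hM₁ hM₁ne
  refine fine_of_inf_ne_bot S.toSetting hH (hHmax _ (theta_mem_family S.functor hh hh1) fun g hg => ?_) ?_
  · exact mem_normalizer_commutator (le_normalizer_qcore (le_normalizer (hθM hg)))
      (theta_commute S.toSetting hh hh1 hg)
  · have hle : good p q A θ ≤ H := hHmax _ (good_mem_family S.toSetting)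
      ((good_commute S.toSetting (Ne.symm hsq)).trans ((centralizer_le (SetLike.coe_subset_coe.mpr hM₁P)).trans
        fun g hg => Cfsg.Lib.Sft.mem_normalizer_of_conj fun u hu => by
          rw [← mem_centralizer_iff.mp hg u hu, mul_inv_cancel_right]; exact hu))
    rw [inf_eq_left.mpr hle]
    exact hPq

theorem good_two_eq_bot (S : Critical p A θ) : good p 2 A θ = ⊥ := by
  by_contra hne
  refine hne (eq_bot_of_lines_normalize S (good_mem_family S.toSetting) fun B hB =>
    line_le_normalizer_of_fine S hB fun h _ hh hh1 => ?_)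
  obtain ⟨M, hM, hθM, hMm⟩ := exists_maximal_member (theta_mem_family S.functor hh hh1)
  obtain ⟨s, hs, hw⟩ := exists_witness S hh hh1 hM hMm hθM
  haveI := Fact.mk hs
  by_cases hs2 : s = 2
  · subst hs2
    exact ⟨qcore 2 M, qcore_mem_family hM 2, isPGroup_qcore, fun e => hw (e ▸ bot_le),
      hθM.trans (le_normalizer.trans le_normalizer_qcore)⟩
  · exact (fine_of_odd_witness S hh hh1 hM hθM hs2 hw hne).2

/-- there is no minimal counterexample -/
theorem Critical.false (S : Critical p A θ) : False := by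
  classical
  have hP2 := good_two_eq_bot S
  obtain ⟨Q, hQ, hQq, hQm⟩ := exists_max_member (p := p) (A := A) (θ := θ) 2
  set V := Q ⊓ centralizer (Q : Set G) with hV
  have hAV : A ≤ normalizer (V : Set G) := le_normalizer_inf (le_normalizer_of_mem_family hQ)
    ((le_normalizer_of_mem_family hQ).trans le_normalizer_centralizer)
  have hVfam : V ∈ 𝓕 := mem_family_of_le hQ inf_le_left hAV
  -- elements without odd witnesses centralise `V`
  let NoOdd : G → Prop := fun h => ∀ M ∈ 𝓕, (∀ M' ∈ 𝓕, M ≤ M' → M' = M) → θ h ≤ M →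
    ∀ s : ℕ, s.Prime → s ≠ 2 → qcore s M ≤ centralizer ({h} : Set G)
  have hN2 : ∀ h ∈ A, h ≠ 1 → NoOdd h → Q ≠ ⊥ ∧ V ≤ centralizer ({h} : Set G) := by
    intro h hh hh1 hno
    obtain ⟨M, hM, hθM, hMm⟩ := exists_maximal_member (theta_mem_family S.functor hh hh1)
    obtain ⟨s, hs, hw⟩ := exists_witness S hh hh1 hM hMm hθM
    obtain rfl : s = 2 := by_contra fun hs2 => hw (hno M hM hMm hθM s hs hs2)
    set U := qcore 2 M
    have hU : U ∈ 𝓕 := qcore_mem_family hM 2
    have hU1 : U ≠ ⊥ := fun e => hw (e ▸ bot_le)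
    have hUQ : U ≤ Q := le_max_of_invariant S.toSetting hQ hQq hQm hU isPGroup_qcore
      ((inf_le_theta S.toSetting hh hh1).trans (hθM.trans (le_normalizer.trans le_normalizer_qcore)))
    refine ⟨fun e => hU1 (eq_bot_iff.mpr (e ▸ hUQ)), ?_⟩
    have hVCU : V ≤ centralizer (U : Set G) :=
      inf_le_right.trans (centralizer_le (SetLike.coe_subset_coe.mpr hUQ))
    obtain ⟨W, hW, hWn, hWmax⟩ := exists_greatest S hU hU1
    have hWM : W = M := hMm W hW (hWmax M hM (le_normalizer.trans le_normalizer_qcore))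
    have hVM : V ≤ M := hWM ▸ hWmax V hVfam (hVCU.trans fun g hg =>
      Cfsg.Lib.Sft.mem_normalizer_of_conj fun u hu => by
        rw [← mem_centralizer_iff.mp hg u hu, mul_inv_cancel_right]; exact hu)
    set Y := ⁅V, zpowers h⁆
    have hYV : Y ≤ V := commutator_le_of_le_normalizer (zpowers_le_normalizer hVfam hh)
    have hYU : Y ≤ U := by
      intro y hy
      haveI := hM.1
      show y ∈ qcore 2 M
      rw [mem_qcore_iff (hVM (hYV hy))]
      refine mem_pCore_of_centralizes_fitting ?_ fun r hr x hx => Subtype.ext ?_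
      · exact ((hQq.to_le inf_le_left : IsPGroup 2 V).comap_of_injective M.subtype M.subtype_injective).to_le
          (zpowers_le.mpr (mem_subgroupOf.mpr (hYV hy)))
      by_cases hr2 : r = 2
      · subst hr2
        exact mem_centralizer_iff.mp (hVCU (hYV hy)) _ (mem_map_of_mem _ hx)
      · have hR := hno M hM hMm hθM r hr hr2
        have hRc : ⁅qcore r M, zpowers h⁆ = ⊥ := commutator_eq_bot_iff_le_centralizer.mpr
          (by rw [centralizer_zpowers]; exact hR)
        have hbot : ⁅⁅V, zpowers h⁆, qcore r M⁆ = ⊥ := by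
          refine commutator_commutator_eq_bot_of_rotate ?_ (eq_bot_iff.mpr ?_)
          · rw [commutator_comm (zpowers h), hRc, commutator_bot_left]
          · exact (commutator_mono (le_normalizer_iff_commutator_le_left.mp
              (hVM.trans (le_normalizer.trans le_normalizer_qcore))) le_rfl).trans hRc.le
        exact (mem_centralizer_iff.mp (commutator_eq_bot_iff_le_centralizer.mp hbot hy) _
          (mem_map_of_mem _ hx))
    have hcomm : ∀ a ∈ Y, ∀ b ∈ Y, a * b = b * a := fun a ha b hb =>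
      (mem_centralizer_iff.mp (hYV hb).2 a (hYV ha).1)
    have h1 := good_of_witness S.toSetting hh hh1 hM hθM hYU
      (fun b hb => mem_normalizer_commutator (hAV hb) (Cfsg.Lib.Signalizer.comm S.elem hb hh))
      (Or.inr hcomm)
    rw [hP2, commutator_commutator_eq (zpowers_le_normalizer hVfam hh) (coprime_zpowers_of_mem S.toSetting hVfam hh)
      (Or.inr hVfam.1)] at h1
    intro x hx
    exact mem_centralizer_singleton_iff.mpr (mem_centralizer_iff.mp
      (commutator_eq_bot_iff_le_centralizer.mp (eq_bot_iff.mpr h1) hx) h (mem_zpowers h)).symm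
  -- a proper line containing all elements without odd witnesses
  by_cases hline : ∃ B, IsLine p A B ∧ ¬ A ≤ B ∧ ∀ h ∈ A, h ≠ 1 → NoOdd h → h ∈ B
  · obtain ⟨B, hB, hBA, hall⟩ := hline
    have hodd : ∀ h ∈ A, h ∉ B → ∃ M ∈ 𝓕, θ h ≤ M ∧ ∃ s, s.Prime ∧ s ≠ 2 ∧
        ¬ qcore s M ≤ centralizer ({h} : Set G) := by
      intro h hh hhB
      by_contra hc
      push Not at hc
      exact hhB (hall h hh (fun e => hhB (e ▸ one_mem B)) fun M hM _ hθM s hs hs2 => hc M hM hθM s hs hs2)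
    obtain ⟨e, he, heB⟩ := SetLike.not_le_iff_exists.mp hBA
    have he1 : e ≠ 1 := fun h1 => heB (h1 ▸ one_mem B)
    obtain ⟨M, hM, hθM, s, hs, hs2, hw⟩ := hodd e he heB
    haveI := Fact.mk hs
    set U := qcore s M
    have hne : good p s A θ ≠ ⊥ := by
      intro h0
      have h1 : ⁅U, zpowers e⁆ ≤ good p s A θ := good_of_witness S.toSetting he he1 hM hθM le_rfl
        ((le_normalizer_of_mem_family hM).trans le_normalizer_qcore) (Or.inl hs2)
      rw [h0, le_bot_iff, commutator_eq_bot_iff_le_centralizer, centralizer_zpowers] at h1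
      exact hw h1
    refine false_of_fine_off_line S hs2 hne hB hBA fun x hx hxB => ?_
    obtain ⟨M', hM', hθM', s', hs', hs2', hw'⟩ := hodd x hx hxB
    haveI := Fact.mk hs'
    exact (fine_of_odd_witness S hx (fun h1 => hxB (h1 ▸ one_mem B)) hM' hθM' hs2' hw' hne).2
  push Not at hline
  -- so `V` is centralised by `A`
  have hAle : ∀ z ∈ V, A ≤ centralizer ({z} : Set G) := by
    intro z hz
    by_contra hnle
    set C := A ⊓ centralizer ({z} : Set G)
    have hCA : ¬ A ≤ C := fun hle => hnle (hle.trans inf_le_right)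
    obtain ⟨i, hi, ei⟩ := (Nat.dvd_prime_pow hp.out).mp (S.card ▸ card_dvd_of_le (inf_le_left : C ≤ A))
    have h3 : i ≤ 2 := by
      by_contra hc
      exact hCA (eq_of_le_of_card_ge inf_le_left (by rw [S.card, ei]; exact Nat.pow_le_pow_right hp.out.pos (by omega))).ge
    obtain ⟨B₀, hB₀, hCB⟩ := Sylow.exists_subgroup_card_pow_prime_le p (G := A) (m := 2) (n := i)
      (by rw [S.card]; exact pow_dvd_pow p (by norm_num)) (C.subgroupOf A)
      (by rw [Nat.card_congr (subgroupOfEquivOfLe (inf_le_left : C ≤ A)).toEquiv, ei]) h3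
    set B := B₀.map A.subtype
    have hcB : Nat.card B = p ^ 2 := by rw [card_map_of_injective A.subtype_injective, hB₀]
    have hCle : C ≤ B := fun c hc => ⟨⟨c, hc.1⟩, hCB (mem_subgroupOf.mpr hc), rfl⟩
    have hBA : ¬ A ≤ B := fun hle => by
      have h := card_dvd_of_le hle
      rw [S.card, hcB, Nat.pow_dvd_pow_iff_le_right hp.out.one_lt] at h
      omega
    obtain ⟨h, hh, hh1, hno, hhB⟩ := hline B ⟨map_subtype_le _, hcB.ge⟩ hBA
    exact hhB (hCle ⟨hh, mem_centralizer_singleton_iff.mpr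
      (commute_of_mem_centralizer ((hN2 h hh hh1 hno).2 hz)).symm⟩)
  have hVA : V ≤ centralizer (A : Set G) := fun z hz =>
    mem_centralizer_iff.mpr fun a ha => mem_centralizer_singleton_iff.mp (hAle z hz ha)
  refine false_of_central S hP2 hQ hQq hQm hV hVA ?_
  obtain ⟨B₀, hB₀⟩ := Sylow.exists_subgroup_card_pow_prime p (G := A) (n := 2)
    (by rw [S.card]; exact pow_dvd_pow p (by norm_num))
  have hcB : Nat.card (B₀.map A.subtype) = p ^ 2 := by rw [card_map_of_injective A.subtype_injective, hB₀]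
  obtain ⟨h, hh, hh1, hno, -⟩ := hline (B₀.map A.subtype) ⟨map_subtype_le _, hcB.ge⟩ fun hle => by
    have h := card_dvd_of_le hle
    rw [S.card, hcB, Nat.pow_dvd_pow_iff_le_right hp.out.one_lt] at h
    omega
  intro hV1
  haveI := hQq.isNilpotent
  haveI : Nontrivial Q := (nontrivial_iff_ne_bot Q).mpr (hN2 h hh hh1 hno).1
  obtain ⟨z, hz, hz1⟩ := exists_ne_one (inf_center_ne_bot (⊤ : Subgroup Q) top_ne_bot)
  refine hz1 (Subtype.ext (mem_bot.mp (hV1 ▸ ⟨z.2, mem_centralizer_iff.mpr fun x hx => ?_⟩ : (z : G) ∈ (⊥ : Subgroup G))))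
  exact congrArg Subtype.val (mem_center_iff.mp hz.2 ⟨x, hx⟩)

end Contradiction

/-! ### reduction to the minimal counterexample -/

variable {G : Type u} [Group G] [Finite G] {p : ℕ} [hp : Fact p.Prime] {A : Subgroup G}
  {θ : G → Subgroup G}

theorem functor_of_le (S : Setting p A θ) {φ : G → Subgroup G} (h1 : ∀ a ∈ A, a ≠ 1 → φ a ≤ θ a)
    (h2 : ∀ a ∈ A, a ≠ 1 → A ≤ normalizer (φ a : Set G))
    (h3 : ∀ a ∈ A, a ≠ 1 → ∀ b ∈ A, b ≠ 1 → φ a ⊓ centralizer {b} ≤ φ b) : Setting p A φ :=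
  ⟨S.elem, S.card, ⟨fun a ha ha1 => (h1 a ha ha1).trans (S.functor.1.1 a ha ha1),
    fun a ha ha1 hd => S.functor.1.2.1 a ha ha1 (hd.trans (card_dvd_of_le (h1 a ha ha1))),
    fun a ha ha1 _ hb x hx => (mem_normalizer_iff.mp (h2 a ha ha1 hb) x).mp hx, h3⟩,
    fun a ha ha1 => isSolvable_of_le (h1 a ha ha1) (S.functor.2 a ha ha1)⟩

/-- the quotient step -/
theorem lift_of_normal (S : Setting p A θ) {U : Subgroup G} (hU : U ∈ Cfsg.signalizerFamily p A θ) (hU1 : U ≠ ⊥)
    (hn : ∀ a ∈ A, a ≠ 1 → θ a ≤ normalizer (U : Set G))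
    (ih : ∀ (H : Type u) [Group H] [Finite H] (B : Subgroup H) (η : H → Subgroup H), Setting p B η →
      Nat.card H < Nat.card G → ∃ W ∈ Cfsg.signalizerFamily p B η, ∀ a ∈ B, a ≠ 1 → η a ≤ W) :
    ∃ W ∈ Cfsg.signalizerFamily p A θ, ∀ a ∈ A, a ≠ 1 → θ a ≤ W := by
  classical
  set N := normalizer (U : Set G)
  have hAN : A ≤ N := le_normalizer_of_mem_family hU
  have hUN : U ≤ N := le_normalizer
  set π := QuotientGroup.mk' (U.subgroupOf N) with hπ
  set B := (A.subgroupOf N).map π with hB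
  have hinj : ∀ a b : N, (a : G) ∈ A → (b : G) ∈ A → π a = π b → a = b := by
    intro a b ha hb e
    have h1 : (a : G)⁻¹ * b ∈ U := (QuotientGroup.eq (s := U.subgroupOf N)).mp e
    have h2 := eq_one_of_coprime (coprime_card S.elem hU.2.1) (mul_mem (inv_mem ha) hb) h1
    exact Subtype.ext (inv_mul_eq_one.mp h2)
  let η : (↥N ⧸ U.subgroupOf N) → Subgroup (↥N ⧸ U.subgroupOf N) := fun x =>
    ⨆ a : {a : N // (a : G) ∈ A ∧ π a = x}, ((θ (a.1 : G)).subgroupOf N).map π
  have hη : ∀ a : N, (a : G) ∈ A → η (π a) = ((θ (a : G)).subgroupOf N).map π := by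
    intro a ha
    refine le_antisymm (iSup_le fun b => ?_)
      (le_iSup (fun b : {b : N // (b : G) ∈ A ∧ π b = π a} => ((θ (b.1 : G)).subgroupOf N).map π) ⟨a, ha, rfl⟩)
    rw [hinj b.1 a b.2.1 ha b.2.2]
  have hpre : ∀ x ∈ B, x ≠ 1 → ∃ a : N, (a : G) ∈ A ∧ (a : G) ≠ 1 ∧ π a = x := by
    rintro _ ⟨a, ha, rfl⟩ hx
    exact ⟨a, ha, fun e => hx (by rw [show a = 1 from Subtype.ext e, map_one]), rfl⟩
  have hcB : Nat.card B = Nat.card A := by
    rw [← Nat.card_congr (subgroupOfEquivOfLe hAN).toEquiv]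
    refine (Nat.card_congr (Equiv.ofBijective (fun a : A.subgroupOf N => (⟨π a, mem_map_of_mem π a.2⟩ : B))
      ⟨fun a b e => Subtype.ext (hinj a b a.2 b.2 (congrArg Subtype.val e)), ?_⟩)).symm
    rintro ⟨_, a, ha, rfl⟩
    exact ⟨⟨a, ha⟩, rfl⟩
  have SB : Setting p B η := by
    refine ⟨⟨⟨⟨?_⟩⟩, ?_⟩, hcB.trans S.card, ⟨?_, ?_, ?_, ?_⟩, ?_⟩
    · rintro ⟨_, a, ha, rfl⟩ ⟨_, b, hb, rfl⟩
      refine Subtype.ext ?_
      show π a * π b = π b * π a
      rw [← map_mul, ← map_mul]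
      exact congrArg π (Subtype.ext (Cfsg.Lib.Signalizer.comm S.elem ha hb))
    · rintro _ ⟨a, ha, rfl⟩
      rw [← map_pow, show a ^ p = 1 from Subtype.ext (S.elem.2 (a : G) ha), map_one]
    · intro x hx hx1
      obtain ⟨a, ha, ha1, rfl⟩ := hpre x hx hx1
      rw [hη a ha]
      rintro _ ⟨t, ht, rfl⟩
      refine mem_centralizer_singleton_iff.mpr ?_
      rw [← map_mul, ← map_mul]
      exact congrArg π (Subtype.ext (theta_commute S ha ha1 ht))
    · intro x hx hx1
      obtain ⟨a, ha, ha1, rfl⟩ := hpre x hx hx1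
      rw [hη a ha]
      refine fun hd => S.functor.1.2.1 a ha ha1 (hd.trans ((card_map_dvd _ _).trans ?_))
      exact (Nat.card_congr (subgroupOfEquivOfLe (hn a ha ha1)).toEquiv).dvd
    · intro x hx hx1 y hy t ht
      obtain ⟨a, ha, ha1, rfl⟩ := hpre x hx hx1
      obtain ⟨b, hb, rfl⟩ := hy
      rw [hη a ha] at ht ⊢
      obtain ⟨u, hu, rfl⟩ := ht
      rw [← map_inv, ← map_mul, ← map_mul]
      exact mem_map_of_mem π (mem_subgroupOf.mpr (S.functor.1.2.2.1 a ha ha1 b hb u hu))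
    · intro x hx hx1 y hy hy1
      obtain ⟨a, ha, ha1, rfl⟩ := hpre x hx hx1
      obtain ⟨b, hb, hb1, rfl⟩ := hpre y hy hy1
      rw [hη a ha, hη b hb]
      rintro _ ⟨⟨t, ht, rfl⟩, hc⟩
      set X := U ⊔ θ (a : G)
      have hX := sup_mem_family S.elem hU (theta_mem_family S.functor ha ha1) (hn a ha ha1)
      have h1 : π ⁅t⁻¹, b⁆ = 1 := by
        rw [map_commutatorElement, map_inv]
        exact commutatorElement_eq_one_iff_mul_comm.mpr
          (Commute.inv_left (mem_centralizer_singleton_iff.mp hc)).eq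
      obtain ⟨c, hcX, hcb, htc⟩ := exists_fixed_preimage (p := p) (R := U) (N := X) (S.elem.2 (b : G) hb) b.2
        hU.1 (coprime_p hU) le_sup_left (mem_sup_right ht) t.2
        ((QuotientGroup.eq_one_iff (N := U.subgroupOf N) _).mp h1)
      have hcθ : c ∈ θ (b : G) :=
        hX.2.2.2 b hb hb1 ⟨hcX, mem_centralizer_singleton_iff.mpr hcb.symm⟩
      exact ⟨⟨c, hn b hb hb1 hcθ⟩, hcθ, ((QuotientGroup.eq (s := U.subgroupOf N)).mpr htc).symm⟩
    · intro x hx hx1
      obtain ⟨a, ha, ha1, rfl⟩ := hpre x hx hx1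
      rw [hη a ha]
      refine isSolvable_map ?_ π
      haveI := S.functor.2 a ha ha1
      exact Group.isSolvable_of_surjective (f := (subgroupOfEquivOfLe (hn a ha ha1)).symm.toMonoidHom)
        (subgroupOfEquivOfLe (hn a ha ha1)).symm.surjective
  have hlt : Nat.card (↥N ⧸ U.subgroupOf N) < Nat.card G := by
    refine lt_of_lt_of_le ?_ (Subgroup.card_le_card_group N)
    rw [card_eq_card_quotient_mul_card_subgroup (U.subgroupOf N)]
    refine lt_mul_of_one_lt_right Nat.card_pos ?_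
    rw [Nat.card_congr (subgroupOfEquivOfLe hUN).toEquiv]
    exact (Subgroup.one_lt_card_iff_ne_bot U).mpr hU1
  obtain ⟨W', hW', hW'le⟩ := ih _ B η SB hlt
  set W := (W'.comap π).map N.subtype
  have hWfam : W ∈ Cfsg.signalizerFamily p A θ := by
    refine ⟨?_, ?_, ?_, ?_⟩
    · refine isSolvable_map ?_ _
      haveI : Group.IsSolvable W' := hW'.1
      haveI : Group.IsSolvable U := hU.1
      let f : U →* W'.comap π := MonoidHom.codRestrict (inclusion hUN) _ fun u => by
        show π (inclusion hUN u) ∈ W'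
        rw [show π (inclusion hUN u) = 1 from (QuotientGroup.eq_one_iff _).mpr u.2]
        exact one_mem _
      refine Group.isSolvable_of_ker_le_range f
        ((π.comp (W'.comap π).subtype).codRestrict W' fun x => x.2) fun x hx => ?_
      have h1 : π x.1 = 1 := congrArg Subtype.val hx
      exact ⟨⟨x.1.1, (QuotientGroup.eq_one_iff (N := U.subgroupOf N) x.1).mp h1⟩,
        Subtype.ext (Subtype.ext rfl)⟩
    · rw [card_map_of_injective N.subtype_injective, card_comap_mk',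
        Nat.card_congr (subgroupOfEquivOfLe hUN).toEquiv]
      intro hd
      rcases hp.out.dvd_mul.mp hd with h | h
      · first | exact hW'.2.1 h | exact hU.2.1 h
      · first | exact hW'.2.1 h | exact hU.2.1 h
    · rintro b hb _ ⟨x, hx, rfl⟩
      refine ⟨⟨b, hAN hb⟩ * x * ⟨b, hAN hb⟩⁻¹, ?_, rfl⟩
      show π _ ∈ W'
      rw [map_mul, map_mul, map_inv]
      exact hW'.2.2.1 _ (mem_map_of_mem π (mem_subgroupOf.mpr hb)) _ hx
    · rintro a ha ha1 _ ⟨⟨x, hx, rfl⟩, hxa⟩
      have hπa : π ⟨a, hAN ha⟩ ≠ 1 := fun e => ha1 (congrArg Subtype.val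
        (hinj ⟨a, hAN ha⟩ 1 ha (one_mem A) (e.trans (map_one π).symm)))
      have h1 : π x ∈ η (π ⟨a, hAN ha⟩) := by
        refine hW'.2.2.2 _ (mem_map_of_mem π (mem_subgroupOf.mpr ha)) hπa
          ⟨hx, mem_centralizer_singleton_iff.mpr ?_⟩
        rw [← map_mul, ← map_mul]
        exact congrArg π (Subtype.ext (mem_centralizer_singleton_iff.mp hxa))
      rw [hη _ ha] at h1
      obtain ⟨t, ht, e⟩ := h1
      have h2 : (t : G)⁻¹ * x ∈ U := (QuotientGroup.eq (s := U.subgroupOf N)).mp e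
      have hX := sup_mem_family S.elem hU (theta_mem_family S.functor ha ha1) (hn a ha ha1)
      refine hX.2.2.2 a ha ha1 ⟨?_, hxa⟩
      rw [show (N.subtype x : G) = (t : G) * ((t : G)⁻¹ * x) by simp]
      exact mul_mem (mem_sup_right ht) (mem_sup_left h2)
  refine ⟨W, hWfam, fun a ha ha1 x hx => ⟨⟨x, hn a ha ha1 hx⟩, ?_, rfl⟩⟩
  have hπa : π ⟨a, hAN ha⟩ ≠ 1 := fun e => ha1 (congrArg Subtype.val
    (hinj ⟨a, hAN ha⟩ 1 ha (one_mem A) (e.trans (map_one π).symm)))
  refine hW'le _ (mem_map_of_mem π (mem_subgroupOf.mpr ha)) hπa ?_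
  rw [hη _ ha]
  exact mem_map_of_mem π (mem_subgroupOf.mpr hx)

theorem exists_member_of_card_eq : ∀ (n m : ℕ) (G : Type u) [Group G] [Finite G] (A : Subgroup G)
    (θ : G → Subgroup G), Setting p A θ → Nat.card G = n →
    (∑ᶠ a : {a : G // a ∈ A ∧ a ≠ 1}, Nat.card (θ a.1)) = m →
    ∃ W ∈ Cfsg.signalizerFamily p A θ, ∀ a ∈ A, a ≠ 1 → θ a ≤ W := by
  intro n
  induction n using Nat.strong_induction_on with
  | _ n ihn =>
  intro m
  induction m using Nat.strong_induction_on with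
  | _ m ihm =>
  intro G _ _ A θ S hn hm
  classical
  by_contra hno
  refine Critical.false (p := p) (A := A) (θ := θ)
    { S with sub := ?_, noNormal := ?_, noTotal := hno }
  · rintro φ h1 h2 h3 ⟨a₀, ha₀, ha₀1, hne⟩
    have hlt : (∑ᶠ a : {a : G // a ∈ A ∧ a ≠ 1}, Nat.card (φ a.1)) < m := by
      haveI := Fintype.ofFinite {a : G // a ∈ A ∧ a ≠ 1}
      rw [← hm, finsum_eq_sum_of_fintype, finsum_eq_sum_of_fintype]
      refine Finset.sum_lt_sum (fun a _ => Nat.le_of_dvd Nat.card_pos (card_dvd_of_le (h1 a.1 a.2.1 a.2.2)))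
        ⟨⟨a₀, ha₀, ha₀1⟩, Finset.mem_univ _, ?_⟩
      refine Nat.lt_of_not_le fun hle => hne (eq_of_le_of_card_ge (h1 a₀ ha₀ ha₀1) hle)
    obtain ⟨W, hW, hWle⟩ := ihm _ hlt G A φ (functor_of_le S h1 h2 h3) hn rfl
    exact ⟨W, ⟨hW.1, hW.2.1, hW.2.2.1, fun a ha ha1 => (hW.2.2.2 a ha ha1).trans (h1 a ha ha1)⟩, hWle⟩
  · intro U hU hnorm
    by_contra hU1
    exact hno (lift_of_normal S hU hU1 hnorm fun H _ _ B η SB hlt => ihn _ (hn ▸ hlt) _ H B η SB rfl rfl)

/-- **the solvable signalizer functor theorem** -/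
theorem exists_member (hA : Cfsg.IsElementaryAbelian p A) (hA3 : p ^ 3 ≤ Nat.card A)
    (hθ : Cfsg.IsSolvableSignalizerFunctor p A θ) :
    ∃ W ∈ Cfsg.signalizerFamily p A θ, ∀ a ∈ A, a ≠ 1 → θ a ≤ W := by
  have hAp : IsPGroup p A := fun a => ⟨1, Subtype.ext (by rw [pow_one]; exact hA.2 a a.2)⟩
  obtain ⟨k, hk⟩ := IsPGroup.iff_card.mp hAp
  have hk3 : 3 ≤ k := (Nat.pow_le_pow_iff_right hp.out.one_lt).mp (hk ▸ hA3)
  obtain ⟨A₀', hA₀'⟩ := Sylow.exists_subgroup_card_pow_prime p (G := A) (n := 3)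
    (hk ▸ pow_dvd_pow p hk3)
  set A₀ := A₀'.map A.subtype
  have hA₀A : A₀ ≤ A := map_subtype_le _
  have S : Setting p A₀ θ := ⟨⟨⟨⟨fun x y => Subtype.ext (Cfsg.Lib.Signalizer.comm hA (hA₀A x.2) (hA₀A y.2))⟩⟩,
      fun a ha => hA.2 a (hA₀A ha)⟩,
    by rw [card_map_of_injective A.subtype_injective, hA₀'],
    ⟨fun a ha => hθ.1.1 a (hA₀A ha), fun a ha => hθ.1.2.1 a (hA₀A ha),
      fun a ha ha1 b hb => hθ.1.2.2.1 a (hA₀A ha) ha1 b (hA₀A hb),
      fun a ha ha1 b hb => hθ.1.2.2.2 a (hA₀A ha) ha1 b (hA₀A hb)⟩, fun a ha => hθ.2 a (hA₀A ha)⟩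
  obtain ⟨W, hW, hWle⟩ := exists_member_of_card_eq _ _ G A₀ θ S rfl rfl
  set W' := ⨆ a : {a : G // a ∈ A ∧ a ≠ 1}, θ a.1
  have hW'W : W' ≤ W := by
    refine iSup_le fun a => ?_
    have hfam := theta_mem_family hθ a.2.1 a.2.2
    refine le_of_lines S hfam.2.1 (hA₀A.trans (le_normalizer_of_mem_family hfam)) fun B hB => ?_
    obtain ⟨e, heB, he, he1⟩ := exists_ne_one_of_line hB
    exact (inf_centralizer_le hfam (hA₀A he) he1 heB).trans (hWle e he he1)
  have hAW' : A ≤ normalizer (W' : Set G) := fun b hb => mem_normalizer_iSup _ fun a =>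
    le_normalizer_of_mem_family (theta_mem_family hθ a.2.1 a.2.2) hb
  refine ⟨W', ⟨isSolvable_of_le hW'W hW.1, fun hd => hW.2.1 (hd.trans (card_dvd_of_le hW'W)),
    fun b hb x hx => (mem_normalizer_iff.mp (hAW' hb) x).mp hx, fun a ha ha1 => ?_⟩,
    fun a ha ha1 => le_iSup (fun a : {a : G // a ∈ A ∧ a ≠ 1} => θ a.1) ⟨a, ha, ha1⟩⟩
  have hCA : A₀ ≤ normalizer ((W' ⊓ centralizer {a} : Subgroup G) : Set G) := fun b hb =>
    le_normalizer_inf hAW' (fun c hc => le_normalizer (mem_centralizer_singleton_iff.mpr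
      (Cfsg.Lib.Signalizer.comm hA hc ha))) (hA₀A hb)
  refine le_of_lines S (fun hd => hW.2.1 (hd.trans (card_dvd_of_le (inf_le_left.trans hW'W)))) hCA
    fun B hB x hx => ?_
  obtain ⟨e, heB, he, he1⟩ := exists_ne_one_of_line hB
  exact hθ.1.2.2.2 e (hA₀A he) he1 a ha ha1
    ⟨(hW.2.2.2 e he he1) ⟨hW'W hx.1.1,
      mem_centralizer_singleton_iff.mpr (mem_centralizer_iff.mp hx.2 e heB).symm⟩, hx.1.2⟩

end Cfsg.Lib.Sft
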