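import Cfsg.Agent.Coprime.Fitting
import Cfsg.Agent.Coprime.SolvableBasics
import Cfsg.Agent.Coprime.Action
import Cfsg.Agent.HallHigman.Drop
import Cfsg.Agent.S1324

/-!
Generic group theory for the solvable signalizer functor theorem: cores of subgroups, a criterion for an
element to lie in a `q`-core, consequences of centralising a Sylow subgroup, and generation of commutators.
-/

set_option linter.style.haveILetI false
set_option linter.unusedSectionVars false

namespace Cfsg.Lib.Sft

open Subgroup Cfsg.Lib.Coprime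
open scoped commutatorElement

universe u

variable {G : Type u} [Group G] [Finite G]

/-- `O_q(K)` as a subgroup of `G` -/
def qcore (q : ℕ) (K : Subgroup G) : Subgroup G := (Cfsg.pCore q K).map K.subtype

/-- `O_{q'}(K)` as a subgroup of `G` -/
def qcore' (q : ℕ) (K : Subgroup G) : Subgroup G := (Cfsg.pPrimeCore q K).map K.subtype

theorem mem_normalizer_of_conj {N : Subgroup G} {g : G} (h : ∀ x ∈ N, g * x * g⁻¹ ∈ N) :
    g ∈ normalizer (N : Set G) := by
  have hle : conjMap g N ≤ N := fun y hy => by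
    rw [mem_conjMap] at hy
    have := h _ hy
    rwa [show g * (g⁻¹ * y * g) * g⁻¹ = y by group] at this
  exact conjMap_eq_self_iff.mp (eq_of_le_of_card_ge hle (card_conjMap g N).ge)

theorem le_normalizer_map_char (K : Subgroup G) (C : Subgroup K) [hC : C.Characteristic] :
    normalizer (K : Set G) ≤ normalizer ((C.map K.subtype : Subgroup G) : Set G) := by
  intro g hg
  refine mem_normalizer_of_conj ?_
  rintro _ ⟨x, hx, rfl⟩
  exact ⟨K.normalizerMonoidHom ⟨g, hg⟩ x, characteristic_iff_le_comap.mp hC _ hx, rfl⟩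

section Char

variable {H : Type*} [Group H] [Finite H]

instance pCore_char (q : ℕ) : (Cfsg.pCore q H).Characteristic := by
  refine characteristic_iff_map_le.mpr fun φ => ?_
  haveI : ((Cfsg.pCore q H).map φ.toMonoidHom).Normal :=
    Normal.map inferInstance _ φ.surjective
  exact Cfsg.Lib.Components.le_pCore ((Cfsg.Lib.Components.isPGroup_pCore q).map _)

instance pPrimeCore_char (q : ℕ) : (Cfsg.pPrimeCore q H).Characteristic := by
  refine characteristic_iff_map_le.mpr fun φ => ?_
  haveI : ((Cfsg.pPrimeCore q H).map φ.toMonoidHom).Normal :=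
    Normal.map inferInstance _ φ.surjective
  refine Cfsg.Lib.Components.le_pPrimeCore ?_
  rw [card_map_of_injective φ.injective]
  exact Cfsg.Lib.Components.coprime_card_pPrimeCore q

end Char

variable {q : ℕ} {K X : Subgroup G}

theorem qcore_le : qcore q K ≤ K := map_subtype_le _

theorem qcore'_le : qcore' q K ≤ K := map_subtype_le _

theorem isPGroup_qcore : IsPGroup q (qcore q K) := (Cfsg.Lib.Components.isPGroup_pCore q).map _

theorem coprime_qcore' : (Nat.card (qcore' q K)).Coprime q := by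
  rw [qcore', card_map_of_injective K.subtype_injective]
  exact Cfsg.Lib.Components.coprime_card_pPrimeCore q

theorem le_normalizer_qcore : normalizer (K : Set G) ≤ normalizer (qcore q K : Set G) :=
  le_normalizer_map_char K _

theorem le_normalizer_qcore' : normalizer (K : Set G) ≤ normalizer (qcore' q K : Set G) :=
  le_normalizer_map_char K _

theorem le_qcore (hX : X ≤ K) (hn : K ≤ normalizer (X : Set G)) (hq : IsPGroup q X) : X ≤ qcore q K := by
  haveI := normal_subgroupOf_of_le_normalizer hn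
  have h := map_mono (f := K.subtype) (Cfsg.Lib.Components.le_pCore (N := X.subgroupOf K)
    (hq.comap_of_injective K.subtype K.subtype_injective))
  rwa [map_subgroupOf_eq_of_le hX] at h

theorem le_qcore' (hX : X ≤ K) (hn : K ≤ normalizer (X : Set G)) (hq : (Nat.card X).Coprime q) :
    X ≤ qcore' q K := by
  haveI := normal_subgroupOf_of_le_normalizer hn
  have h := map_mono (f := K.subtype) (Cfsg.Lib.Components.le_pPrimeCore (p := q) (N := X.subgroupOf K)
    (by rwa [Nat.card_congr (subgroupOfEquivOfLe hX).toEquiv]))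
  rwa [map_subgroupOf_eq_of_le hX] at h

theorem mem_qcore_iff {z : G} (hz : z ∈ K) : z ∈ qcore q K ↔ (⟨z, hz⟩ : K) ∈ Cfsg.pCore q K :=
  mem_map_iff_mem K.subtype_injective (x := (⟨z, hz⟩ : K))

theorem mem_qcore'_iff {z : G} (hz : z ∈ K) : z ∈ qcore' q K ↔ (⟨z, hz⟩ : K) ∈ Cfsg.pPrimeCore q K :=
  mem_map_iff_mem K.subtype_injective (x := (⟨z, hz⟩ : K))

theorem commute_qcore [Fact q.Prime] {r : ℕ} [Fact r.Prime] (h : q ≠ r) {x y : G}
    (hx : x ∈ qcore q K) (hy : y ∈ qcore r K) : x * y = y * x := by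
  obtain ⟨x', hx', rfl⟩ := hx
  obtain ⟨y', hy', rfl⟩ := hy
  exact congrArg Subtype.val (Cfsg.Lib.Components.pCore_commute h x' y' hx' hy').eq

/-- an element of a `q'`-subgroup that is a `q`-element is trivial -/
theorem eq_one_of_coprime_of_isPGroup [Fact q.Prime] {H : Type*} [Group H] [Finite H] {Y Z : Subgroup H}
    (hY : IsPGroup q Y) (hZ : (Nat.card Z).Coprime q) {x : H} (hxY : x ∈ Y) (hxZ : x ∈ Z) : x = 1 := by
  obtain ⟨n, hn⟩ := IsPGroup.iff_card.mp hY
  exact eq_one_of_coprime (show (Nat.card Y).Coprime (Nat.card Z) by rw [hn]; exact (hZ.pow_right n).symm)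
    hxY hxZ

/-- in a solvable group a `q`-element centralising every `O_r`, `r ≠ q`, and `O_q` is central in the Fitting
subgroup and so lies in `O_q` -/
theorem mem_pCore_of_centralizes_fitting {H : Type*} [Group H] [Finite H] [Group.IsSolvable H]
    [hq : Fact q.Prime] {z : H} (hzq : IsPGroup q (zpowers z))
    (hF : ∀ r : ℕ, r.Prime → ∀ x ∈ Cfsg.pCore r H, x * z = z * x) : z ∈ Cfsg.pCore q H := by
  have hzF : z ∈ centralizer (Cfsg.fittingSubgroup H : Set H) := by
    rw [Cfsg.Lib.Components.fitting_eq_iSup_pCore]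
    have hle : (⨆ r : {r : ℕ // r.Prime}, Cfsg.pCore r.1 H) ≤ centralizer ({z} : Set H) :=
      iSup_le fun r x hx => mem_centralizer_singleton_iff.mpr (hF r.1 r.2 x hx)
    exact mem_centralizer_iff.mpr fun x hx => mem_centralizer_singleton_iff.mp (hle hx)
  have hz := centralizer_fitting_le hzF
  set F := Cfsg.fittingSubgroup H
  haveI : Group.IsNilpotent F := Cfsg.Lib.Components.isNilpotent_fitting
  obtain ⟨P, hP⟩ := (hzq.comap_of_injective F.subtype F.subtype_injective).exists_le_sylow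
  haveI hPn : (P : Subgroup F).Normal := inferInstance
  haveI : (P : Subgroup F).Characteristic := Sylow.characteristic_of_normal P hPn
  haveI : ((P : Subgroup F).map F.subtype).Normal := inferInstance
  refine Cfsg.Lib.Components.le_pCore (N := (P : Subgroup F).map F.subtype) (P.2.map _) ?_
  exact ⟨⟨z, hz⟩, hP (mem_zpowers z), rfl⟩

/-- a `q`-element centralising `O_{q'}(H)` where `O_q(H) = 1` is trivial -/
theorem eq_one_of_centralizes_pPrimeCore {H : Type*} [Group H] [Finite H] [Group.IsSolvable H]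
    [hq : Fact q.Prime] (h1 : Cfsg.pCore q H = ⊥) {z : H} (hzq : IsPGroup q (zpowers z))
    (hc : ∀ x ∈ Cfsg.pPrimeCore q H, x * z = z * x) : z = 1 := by
  have key : z ∈ Cfsg.pCore q H := by
    refine mem_pCore_of_centralizes_fitting hzq fun r hr x hx => ?_
    by_cases hrq : r = q
    · rw [hrq, h1, mem_bot] at hx
      rw [hx, one_mul, mul_one]
    · have hle : Cfsg.pCore r H ≤ Cfsg.pPrimeCore q H :=
        haveI := Fact.mk hr
        Cfsg.Lib.Coprime.pCore_le_pPrimeCore hq.out hrq
      exact hc x (hle hx)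
  rw [h1] at key
  exact mem_bot.mp key

/-- preimage of `O_{q'}(K/O_q(K))` -/
def qqcore (q : ℕ) (K : Subgroup G) : Subgroup G :=
  ((Cfsg.pPrimeCore q (↥K ⧸ Cfsg.pCore q K)).comap (QuotientGroup.mk' (Cfsg.pCore q K))).map K.subtype

theorem qqcore_le : qqcore q K ≤ K := map_subtype_le _

theorem qcore_le_qqcore : qcore q K ≤ qqcore q K := by
  refine map_mono fun x hx => ?_
  show QuotientGroup.mk' (Cfsg.pCore q K) x ∈ Cfsg.pPrimeCore q (↥K ⧸ Cfsg.pCore q K)
  rw [show QuotientGroup.mk' (Cfsg.pCore q K) x = 1 from (QuotientGroup.eq_one_iff x).mpr hx]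
  exact one_mem _

theorem le_normalizer_qqcore : normalizer (K : Set G) ≤ normalizer (qqcore q K : Set G) := by
  haveI : ((Cfsg.pPrimeCore q (↥K ⧸ Cfsg.pCore q K)).comap
      (QuotientGroup.mk' (Cfsg.pCore q K))).Characteristic :=
    Characteristic.comap_quotient_mk inferInstance
  exact le_normalizer_map_char K _

/-- a `q`-element of `O_{q,q'}(K)` lies in `O_q(K)` -/
theorem mem_qcore_of_mem_qqcore [Fact q.Prime] {x : G} (hx : x ∈ qqcore q K) {Y : Subgroup G}
    (hY : IsPGroup q Y) (hxY : x ∈ Y) : x ∈ qcore q K := by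
  obtain ⟨x', hx', rfl⟩ := hx
  set π := QuotientGroup.mk' (Cfsg.pCore q K)
  refine mem_map_of_mem _ ((QuotientGroup.eq_one_iff x').mp ?_)
  exact eq_one_of_coprime_of_isPGroup (Y := (Y.subgroupOf K).map π)
    ((hY.comap_of_injective K.subtype K.subtype_injective).map π)
    (Cfsg.Lib.Components.coprime_card_pPrimeCore q) (mem_map_of_mem π hxY) hx'

/-- a `q`-element centralising `O_{q,q'}(K)` modulo `O_q(K)` lies in `O_q(K)` -/
theorem mem_qcore_of_commutators [Fact q.Prime] (hK : Group.IsSolvable K) {z : G} (hz : z ∈ K)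
    {Y : Subgroup G} (hY : IsPGroup q Y) (hzY : z ∈ Y)
    (h : ∀ k ∈ qqcore q K, ⁅z, k⁆ ∈ qcore q K) : z ∈ qcore q K := by
  haveI := hK
  set π := QuotientGroup.mk' (Cfsg.pCore q K)
  rw [mem_qcore_iff hz]
  refine (QuotientGroup.eq_one_iff _).mp ?_
  refine eq_one_of_centralizes_pPrimeCore Cfsg.Lib.HallHigman.pCore_quotient_pCore
    ((hY.comap_of_injective K.subtype K.subtype_injective).map π |>.to_le
      (zpowers_le.mpr (mem_map_of_mem π (show (⟨z, hz⟩ : K) ∈ Y.subgroupOf K from hzY)))) ?_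
  intro x hx
  obtain ⟨k, rfl⟩ := QuotientGroup.mk'_surjective _ x
  have h1 := h k (mem_map_of_mem K.subtype hx)
  have h2 : ⁅(⟨z, hz⟩ : K), k⁆ ∈ Cfsg.pCore q K := by
    rw [← mem_map_iff_mem K.subtype_injective, map_commutatorElement]
    exact h1
  have h3 : ⁅π ⟨z, hz⟩, π k⁆ = 1 := by
    rw [← map_commutatorElement]
    exact (QuotientGroup.eq_one_iff _).mpr h2
  exact (commutatorElement_eq_one_iff_mul_comm.mp h3).symm

/-- a Sylow subgroup of the subgroup `K`, as a subgroup of `G` -/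
def IsSylowOf (q : ℕ) (P K : Subgroup G) : Prop :=
  P ≤ K ∧ IsPGroup q P ∧ ¬ q ∣ P.relIndex K

theorem exists_sylow [Fact q.Prime] {P : Subgroup G} (hP : IsSylowOf q P K) :
    ∃ S : Sylow q K, (S : Subgroup K) = P.subgroupOf K :=
  ⟨(hP.2.1.comap_of_injective K.subtype K.subtype_injective).toSylow hP.2.2, rfl⟩

theorem isSylowOf_of_sylow [Fact q.Prime] {P : Subgroup G} (S : Sylow q K)
    (h : (S : Subgroup K).map K.subtype = P) : IsSylowOf q P K := by
  subst h
  refine ⟨map_subtype_le _, S.2.map _, ?_⟩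
  rw [relIndex, subgroupOf, comap_map_eq_self_of_injective K.subtype_injective]
  exact S.not_dvd_index

theorem pCore_le_image_sylow [Fact q.Prime] {H : Type*} [Group H] [Finite H] (S : Sylow q H)
    (N : Subgroup H) [N.Normal] :
    Cfsg.pCore q (H ⧸ N) ≤ (S : Subgroup H).map (QuotientGroup.mk' N) := by
  have h := pCore_le_sylow q (S.mapSurjective (QuotientGroup.mk'_surjective N))
  exact h

/-- an element centralising a Sylow subgroup of a solvable group lies in `O_{q',q}` -/
theorem mk_mem_pCore_of_centralizes_sylow [Fact q.Prime] {H : Type*} [Group H] [Finite H]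
    [Group.IsSolvable H] (S : Sylow q H) {z : H} (hz : ∀ x ∈ (S : Subgroup H), x * z = z * x) :
    QuotientGroup.mk' (Cfsg.pPrimeCore q H) z ∈ Cfsg.pCore q (H ⧸ Cfsg.pPrimeCore q H) := by
  refine centralizer_pCore_le q pPrimeCore_quotient_eq_bot ?_
  refine mem_centralizer_iff.mpr fun x hx => ?_
  obtain ⟨y, hy, rfl⟩ := pCore_le_image_sylow S _ hx
  rw [← map_mul, hz y hy, map_mul]

/-- `[O, z] ≤ O_{q'}(K)` for a `q'`-subgroup `O` and an element `z` centralising a Sylow `q`-subgroup -/
theorem commutator_mem_qcore' [Fact q.Prime] (hK : Group.IsSolvable K) {P O : Subgroup G}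
    (hP : IsSylowOf q P K) (hO : O ≤ K) (hOq : (Nat.card O).Coprime q) {z : G} (hz : z ∈ K)
    (hzP : ∀ x ∈ P, x * z = z * x) (hzO : z ∈ normalizer (O : Set G)) {o : G} (ho : o ∈ O) :
    ⁅o, z⁆ ∈ qcore' q K := by
  haveI := hK
  obtain ⟨S, hS⟩ := exists_sylow hP
  set π := QuotientGroup.mk' (Cfsg.pPrimeCore q K)
  have hzc := mk_mem_pCore_of_centralizes_sylow S (z := (⟨z, hz⟩ : K))
    (fun x hx => Subtype.ext (hzP _ (by rwa [hS] at hx)))
  have hmem : ⁅o, z⁆ ∈ K := mul_mem (mul_mem (mul_mem (hO ho) hz) (inv_mem (hO ho))) (inv_mem hz)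
  rw [mem_qcore'_iff hmem]
  refine (QuotientGroup.eq_one_iff _).mp ?_
  refine eq_one_of_coprime_of_isPGroup (Y := Cfsg.pCore q _) (Z := (O.subgroupOf K).map π)
    (Cfsg.Lib.Components.isPGroup_pCore q)
    (Nat.Coprime.coprime_dvd_left (card_map_dvd _ _)
      (by rwa [Nat.card_congr (subgroupOfEquivOfLe hO).toEquiv])) ?_ (mem_map_of_mem π ?_)
  · show π ⁅(⟨o, hO ho⟩ : K), (⟨z, hz⟩ : K)⁆ ∈ _
    rw [map_commutatorElement, commutatorElement_def]
    exact mul_mem (Normal.conj_mem inferInstance _ hzc _) (inv_mem hzc)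
  · show ⁅o, z⁆ ∈ O
    rw [commutatorElement_def, show o * z * o⁻¹ * z⁻¹ = o * (z * o⁻¹ * z⁻¹) by group]
    exact mul_mem ho ((mem_normalizer_iff.mp hzO _).mp (inv_mem ho))

/-- a `q'`-subgroup normalised by a Sylow `q`-subgroup lies in `O_{q'}` -/
theorem le_qcore'_of_sylow [Fact q.Prime] (hK : Group.IsSolvable K) {P O : Subgroup G}
    (hP : IsSylowOf q P K) (hO : O ≤ K) (hOq : (Nat.card O).Coprime q)
    (hPO : P ≤ normalizer (O : Set G)) : O ≤ qcore' q K := by
  haveI := hK
  obtain ⟨S, hS⟩ := exists_sylow hP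
  set π := QuotientGroup.mk' (Cfsg.pPrimeCore q K)
  intro o ho
  rw [mem_qcore'_iff (hO ho)]
  refine (QuotientGroup.eq_one_iff _).mp ?_
  have hOq' : (Nat.card ((O.subgroupOf K).map π)).Coprime q :=
    Nat.Coprime.coprime_dvd_left (card_map_dvd _ _)
      (by rwa [Nat.card_congr (subgroupOfEquivOfLe hO).toEquiv])
  have hoO : π ⟨o, hO ho⟩ ∈ (O.subgroupOf K).map π := mem_map_of_mem π ho
  refine eq_one_of_coprime_of_isPGroup (Y := Cfsg.pCore q _) (Cfsg.Lib.Components.isPGroup_pCore q)
    hOq' (centralizer_pCore_le q pPrimeCore_quotient_eq_bot ?_) hoO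
  refine mem_centralizer_iff.mpr fun x hx => ?_
  obtain ⟨u, hu, rfl⟩ := pCore_le_image_sylow S _ hx
  refine (commutatorElement_eq_one_iff_mul_comm.mp ?_)
  refine eq_one_of_coprime_of_isPGroup (Y := Cfsg.pCore q _) (Cfsg.Lib.Components.isPGroup_pCore q)
    hOq' ?_ ?_
  · show π u * π ⟨o, hO ho⟩ * (π u)⁻¹ * (π ⟨o, hO ho⟩)⁻¹ ∈ _
    rw [show π u * π ⟨o, hO ho⟩ * (π u)⁻¹ * (π ⟨o, hO ho⟩)⁻¹ =
      π u * (π ⟨o, hO ho⟩ * (π u)⁻¹ * (π ⟨o, hO ho⟩)⁻¹) by group]
    exact mul_mem hx (Normal.conj_mem inferInstance _ (inv_mem hx) _)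
  · show ⁅π u, π ⟨o, hO ho⟩⁆ ∈ _
    rw [← map_commutatorElement]
    refine mem_map_of_mem π ?_
    show (u : G) * o * (u : G)⁻¹ * o⁻¹ ∈ O
    exact mul_mem ((mem_normalizer_iff.mp (hPO (by rwa [hS] at hu)) o).mp ho) (inv_mem ho)

/-- a coprime element centralising a Sylow `q`-subgroup has a `q'`-commutator with a solvable group -/
theorem coprime_commutator_of_centralizes_sylow [Fact q.Prime] (hK : Group.IsSolvable K) {h : G}
    (hh : h ∈ normalizer (K : Set G)) (hhq : (orderOf h).Coprime q) {P : Subgroup G}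
    (hP : IsSylowOf q P K) (hhP : ∀ x ∈ P, x * h = h * x) :
    (Nat.card ↥⁅K, zpowers h⁆).Coprime q := by
  set E := zpowers h
  have hEK : E ≤ normalizer (K : Set G) := zpowers_le.mpr hh
  set L := K ⊔ E with hL
  have hLs : Group.IsSolvable L := by
    haveI := hK
    haveI hn : (K.subgroupOf L).Normal := normal_subgroupOf_of_le_normalizer (sup_le_normalizer hEK)
    have hs : Function.Surjective ((QuotientGroup.mk' (K.subgroupOf L)).comp
        (inclusion (le_sup_right : E ≤ L))) := by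
      intro x
      obtain ⟨⟨y, hy⟩, rfl⟩ := QuotientGroup.mk'_surjective _ x
      obtain ⟨k, hk, e, he, rfl⟩ := (mem_sup_of_le_normalizer hEK).mp hy
      refine ⟨⟨e, he⟩, ?_⟩
      show QuotientGroup.mk' _ _ = QuotientGroup.mk' _ _
      rw [QuotientGroup.mk'_apply, QuotientGroup.mk'_apply, QuotientGroup.eq]
      show e⁻¹ * (k * e) ∈ K
      rw [← mul_assoc]
      exact (mem_normalizer_iff''.mp (hEK he) k).mp hk
    haveI : Group.IsSolvable E := Group.isSolvable_of_comm fun a b => mul_comm' a b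
    haveI : Group.IsSolvable (↥L ⧸ K.subgroupOf L) := Group.isSolvable_of_surjective hs
    exact Group.isSolvable_of_ker_le_range (inclusion (le_sup_left : K ≤ L))
      (QuotientGroup.mk' (K.subgroupOf L)) (by
        rw [QuotientGroup.ker_mk']
        exact fun z hz => ⟨⟨z, hz⟩, rfl⟩)
  have hKi : ¬ q ∣ P.relIndex L := by
    intro hd
    rw [← relIndex_mul_relIndex P K L hP.1 le_sup_left, (Fact.out : q.Prime).dvd_mul] at hd
    refine hd.elim hP.2.2 fun h1 => ?_
    have h2 : q ∣ Nat.card E := by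
      haveI hn : (K.subgroupOf L).Normal := normal_subgroupOf_of_le_normalizer (sup_le_normalizer hEK)
      have e1 : K.relIndex L ∣ Nat.card E := by
        refine Dvd.dvd.trans ?_ (card_dvd_of_surjective ((QuotientGroup.mk' (K.subgroupOf L)).comp
          (inclusion (le_sup_right : E ≤ L))) ?_)
        · exact dvd_rfl
        · intro x
          obtain ⟨⟨y, hy⟩, rfl⟩ := QuotientGroup.mk'_surjective _ x
          obtain ⟨k, hk, e, he, rfl⟩ := (mem_sup_of_le_normalizer hEK).mp hy
          refine ⟨⟨e, he⟩, ?_⟩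
          show QuotientGroup.mk' _ _ = QuotientGroup.mk' _ _
          rw [QuotientGroup.mk'_apply, QuotientGroup.mk'_apply, QuotientGroup.eq]
          show e⁻¹ * (k * e) ∈ K
          rw [← mul_assoc]
          exact (mem_normalizer_iff''.mp (hEK he) k).mp hk
      exact h1.trans e1
    rw [Nat.card_zpowers] at h2
    exact (Fact.out : q.Prime).ne_one (Nat.eq_one_of_dvd_coprimes hhq h2 dvd_rfl)
  haveI := hLs
  set π := QuotientGroup.mk' (Cfsg.pPrimeCore q L)
  have hPL : IsSylowOf q P L := ⟨hP.1.trans le_sup_left, hP.2.1, hKi⟩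
  obtain ⟨S, hS⟩ := exists_sylow hPL
  have hhL : h ∈ L := mem_sup_right (mem_zpowers h)
  have hc := mk_mem_pCore_of_centralizes_sylow S (z := (⟨h, hhL⟩ : L))
    (fun x hx => Subtype.ext (hhP _ (by rwa [hS] at hx)))
  have hh1 : π ⟨h, hhL⟩ = 1 := by
    refine eq_one_of_coprime_of_isPGroup (Y := Cfsg.pCore q _) (Z := zpowers (π ⟨h, hhL⟩))
      (Cfsg.Lib.Components.isPGroup_pCore q) ?_ hc (mem_zpowers _)
    rw [Nat.card_zpowers]
    refine Nat.Coprime.coprime_dvd_left (orderOf_map_dvd _ _) ?_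
    rwa [orderOf_mk]
  have hhC : h ∈ qcore' q L := by
    rw [mem_qcore'_iff hhL]
    exact (QuotientGroup.eq_one_iff _).mp hh1
  refine Nat.Coprime.coprime_dvd_left (card_dvd_of_le ?_) (coprime_qcore' (K := L) (q := q))
  rw [commutator_le]
  intro k hk e he
  have hkn := le_normalizer_qcore' (q := q) (le_normalizer (mem_sup_left hk : k ∈ L))
  have he' : e ∈ qcore' q L := zpowers_le.mpr hhC he
  exact mul_mem ((mem_normalizer_iff.mp hkn e).mp he') (inv_mem he')

/-- generation of `K = [K, V]` by the `[C_K(D), V]` -/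
theorem le_iSup_commutator {ι : Type*} (Ds : ι → Subgroup G) {A V K : Subgroup G}
    (hAV : V ≤ centralizer (A : Set G))
    (hgen : ∀ N : Subgroup G, N ≤ K → A ≤ normalizer (N : Set G) →
      N ≤ ⨆ i, N ⊓ centralizer (Ds i : Set G))
    (hDA : ∀ i, Ds i ≤ A) (hK : Group.IsSolvable K) (hAK : A ≤ normalizer (K : Set G))
    (hVK : V ≤ normalizer (K : Set G)) (hcop : (Nat.card V).Coprime (Nat.card K))
    (heq : ⁅K, V⁆ = K) : K ≤ ⨆ i, ⁅K ⊓ centralizer (Ds i : Set G), V⁆ := by
  set X := ⨆ i, ⁅K ⊓ centralizer (Ds i : Set G), V⁆ with hXdef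
  have hXK : X ≤ K := iSup_le fun i => (commutator_mono inf_le_left le_rfl).trans heq.le
  have hVC : ∀ i, V ≤ normalizer ((K ⊓ centralizer (Ds i : Set G) : Subgroup G) : Set G) := fun i =>
    le_normalizer_inf hVK fun v hv => le_normalizer (centralizer_le (SetLike.coe_subset_coe.mpr (hDA i))
      (hAV hv))
  obtain ⟨N, ⟨hNK, hNA, hNV, hNn, hKN⟩, hmin⟩ := WellFounded.has_min (wellFounded_lt (α := Subgroup G))
    {N | N ≤ K ∧ A ≤ normalizer (N : Set G) ∧ V ≤ normalizer (N : Set G) ∧
      K ≤ normalizer (N : Set G) ∧ K ≤ X ⊔ N} ⟨K, le_rfl, hAK, hVK, le_normalizer, le_sup_right⟩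
  rcases eq_or_ne N ⊥ with hN1 | hN1
  · rwa [hN1, sup_bot_eq] at hKN
  exfalso
  have hNs : Group.IsSolvable N := isSolvable_of_le hNK hK
  haveI := hNs
  haveI : Nontrivial N := (nontrivial_iff_ne_bot N).mpr hN1
  set N' : Subgroup G := ⁅N, N⁆ with hN'
  have hN'N : N' ≤ N := commutator_le_of_le_normalizer le_normalizer
  have hN'lt : N' < N := by
    refine lt_of_le_of_ne hN'N fun e => ?_
    refine (Group.IsSolvable.commutator_lt_top_of_nontrivial (G := ↥N)).ne ?_
    apply map_injective N.subtype_injective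
    rw [map_subtype_commutator, ← MonoidHom.range_eq_map, range_subtype]
    exact e
  have hN'n : ∀ g ∈ normalizer (N : Set G), g ∈ normalizer (N' : Set G) := fun g hg => by
    rw [← conjMap_eq_self_iff, conjMap, map_commutator]
    exact congrArg₂ _ (conjMap_eq_self hg) (conjMap_eq_self hg)
  refine hmin N' ⟨hN'N.trans hNK, fun g hg => hN'n g (hNA hg), fun g hg => hN'n g (hNV hg),
    fun g hg => hN'n g (hNn hg), ?_⟩ hN'lt
  -- `J = (X ⊓ N) N'` is normal in `K` and `N / J` is fixed by `V`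
  set J := (X ⊓ N) ⊔ N' with hJ
  have hJN : J ≤ N := sup_le inf_le_right hN'N
  have hNJ : N ≤ normalizer (J : Set G) := fun n hn => mem_normalizer_of_conj fun x hx => by
    have h1 : n * x * n⁻¹ * x⁻¹ ∈ J := mem_sup_right (commutator_mem_commutator hn (hJN hx))
    simpa using mul_mem h1 hx
  have hXJ : X ≤ normalizer (J : Set G) := le_normalizer_sup
    (le_normalizer_inf le_normalizer (hXK.trans hNn)) fun g hg => hN'n g (hNn (hXK hg))
  have hKJ : K ≤ normalizer (J : Set G) := hKN.trans (sup_le hXJ hNJ)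
  have hXV : V ≤ normalizer (X : Set G) := by
    intro v hv
    refine mem_normalizer_of_conj fun x hx => ?_
    have hle : conjMap v X ≤ X := by
      rw [hXdef, conjMap, Subgroup.map_iSup]
      exact iSup_mono fun i => le_of_eq
        (conjMap_eq_self (le_normalizer_commutator_right _ _ hv))
    exact hle (mem_map_of_mem _ hx)
  have hVJ : V ≤ normalizer (J : Set G) := le_normalizer_sup
    (le_normalizer_inf hXV hNV) fun g hg => hN'n g (hNV hg)
  -- `N` is generated by `J` and fixed points of `V`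
  have hNgen : N ≤ J ⊔ (N ⊓ centralizer (V : Set G)) := by
    refine (hgen N hNK hNA).trans (iSup_le fun i => ?_)
    have hV' : V ≤ normalizer ((N ⊓ centralizer (Ds i : Set G) : Subgroup G) : Set G) :=
      le_normalizer_inf hNV fun v hv => le_normalizer (centralizer_le (SetLike.coe_subset_coe.mpr (hDA i))
        (hAV hv))
    rw [← commutator_sup_centralizer hV' (coprime_of_le (inf_le_left.trans hNK) hcop)
      (Or.inr (isSolvable_of_le (inf_le_left.trans hNK) hK))]
    refine sup_le (le_trans ?_ (le_sup_of_le_left le_sup_left))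
      (le_sup_of_le_right (inf_le_inf_right _ inf_le_left))
    refine le_inf (le_trans ?_ (le_iSup _ i))
      ((commutator_le_of_le_normalizer hV').trans inf_le_left)
    exact commutator_mono (inf_le_inf_right _ hNK) le_rfl
  -- `[K, N] ≤ J`
  have hKc : ∀ k ∈ K, ∀ n ∈ N, ⁅n, k⁆ ∈ J := by
    set S := normalizer (J : Set G) with hS
    set π := QuotientGroup.mk' (J.subgroupOf S)
    have hKS : K ≤ S := hKJ
    have hVS : V ≤ S := hVJ
    have hNS : N ≤ S := hNJ
    set Kb := (K.subgroupOf S).map π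
    set Vb := (V.subgroupOf S).map π
    set Nb := (N.subgroupOf S).map π
    have hNb : Nb ≤ centralizer (Vb : Set _) := by
      rintro _ ⟨n, hn, rfl⟩
      obtain ⟨j, hj, c, hc, e⟩ := (mem_sup_of_le_normalizer
        ((inf_le_left : N ⊓ centralizer (V : Set G) ≤ N).trans hNJ)).mp (hNgen (mem_subgroupOf.mp hn))
      refine mem_centralizer_iff.mpr ?_
      rintro _ ⟨v, hv, rfl⟩
      have hn' : π n = π ⟨c, hNS hc.1⟩ := by
        refine (QuotientGroup.eq).mpr ?_
        show (n : G)⁻¹ * c ∈ J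
        rw [← e, mul_inv_rev, mul_assoc]
        rw [← mul_assoc]
        exact (mem_normalizer_iff''.mp (hNJ hc.1) _).mp (inv_mem hj)
      rw [hn', ← map_mul, ← map_mul]
      exact congrArg π (Subtype.ext (mem_centralizer_iff.mp hc.2 _ (mem_subgroupOf.mp hv)))
    have hNn' : ∀ k : S, (k : G) ∈ K → ∀ n ∈ Nb, π k * n * (π k)⁻¹ ∈ Nb := by
      rintro k hk _ ⟨n, hn, rfl⟩
      rw [← map_inv, ← map_mul, ← map_mul]
      exact mem_map_of_mem π (mem_subgroupOf.mpr ((mem_normalizer_iff.mp (hNn hk) _).mp hn))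
    have h3 : ⁅⁅Kb, Vb⁆, Nb⁆ = ⊥ := by
      refine commutator_commutator_eq_bot_of_rotate ?_ ?_
      · rw [commutator_comm Vb, commutator_eq_bot_iff_le_centralizer.mpr hNb, commutator_bot_left]
      · refine commutator_eq_bot_iff_le_centralizer.mpr (le_trans ?_ hNb)
        rw [commutator_le]
        rintro n hn _ ⟨k, hk, rfl⟩
        rw [commutatorElement_def, show n * π k * n⁻¹ * (π k)⁻¹ = n * (π k * n⁻¹ * (π k)⁻¹) by group]
        exact mul_mem hn (hNn' k hk _ (inv_mem hn))
    have hKV : Kb ≤ ⁅Kb, Vb⁆ := by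
      refine le_of_eq ?_
      rw [← map_commutator]
      refine congrArg (Subgroup.map π) ?_
      apply map_injective S.subtype_injective
      rw [map_commutator, map_subgroupOf_eq_of_le hKS, map_subgroupOf_eq_of_le hVS, heq]
    intro k hk n hn
    have h4 : ⁅Kb, Nb⁆ = ⊥ := eq_bot_iff.mpr ((commutator_mono hKV le_rfl).trans h3.le)
    rw [commutator_comm, commutator_eq_bot_iff_le_centralizer] at h4
    have h5 : π ⁅(⟨n, hNS hn⟩ : S), (⟨k, hKS hk⟩ : S)⁆ = 1 := by
      rw [map_commutatorElement]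
      exact commutatorElement_eq_one_iff_mul_comm.mpr (mem_centralizer_iff.mp
        (h4 (mem_map_of_mem π (show (⟨n, hNS hn⟩ : S) ∈ N.subgroupOf S from hn))) _
        (mem_map_of_mem π (show (⟨k, hKS hk⟩ : S) ∈ K.subgroupOf S from hk))).symm
    haveI : (J.subgroupOf S).Normal := normal_subgroupOf_of_le_normalizer le_rfl
    exact (QuotientGroup.eq_one_iff (N := J.subgroupOf S) _).mp h5
  -- `X J` is normal with `V`-trivial quotient
  have hXJn : K ≤ normalizer ((X ⊔ J : Subgroup G) : Set G) := by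
    refine hKN.trans (sup_le (le_normalizer_sup le_normalizer hXJ) fun n hn => ?_)
    refine mem_normalizer_of_conj fun y hy => ?_
    obtain ⟨j, hj, x, hx, rfl⟩ := (mem_sup_of_le_normalizer hXJ).mp (by rwa [sup_comm] at hy)
    rw [show n * (j * x) * n⁻¹ = (n * j * n⁻¹) * (⁅n, x⁆ * x) by rw [commutatorElement_def]; group]
    exact mul_mem (mem_sup_right ((mem_normalizer_iff.mp (hNJ hn) j).mp hj))
      (mul_mem (mem_sup_right (hKc x (hXK hx) n hn)) (mem_sup_left hx))
  have hVXJ : V ≤ normalizer ((X ⊔ J : Subgroup G) : Set G) := le_normalizer_sup hXV hVJ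
  have hKle : K ≤ X ⊔ J := by
    rw [← heq, commutator_le]
    intro k hk v hv
    have hk' : k ∈ (X ⊔ J) ⊔ (N ⊓ centralizer (V : Set G)) := by
      have h1 : X ⊔ N ≤ (X ⊔ J) ⊔ (N ⊓ centralizer (V : Set G)) :=
        sup_le (le_sup_of_le_left le_sup_left) (hNgen.trans (sup_le_sup_right le_sup_right _))
      exact h1 (hKN hk)
    obtain ⟨y, hy, c, hc, rfl⟩ := (mem_sup_of_le_normalizer
      ((inf_le_left.trans hNK : N ⊓ centralizer (V : Set G) ≤ K).trans hXJn)).mp hk'
    have e : v * c = c * v := mem_centralizer_iff.mp hc.2 v hv |>.symm |>.symm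
    rw [commutatorElement_def,
      show y * c * v * (y * c)⁻¹ * v⁻¹ = y * (c * v * c⁻¹) * y⁻¹ * v⁻¹ by group, ← e,
      mul_inv_cancel_right, show y * v * y⁻¹ * v⁻¹ = y * (v * y⁻¹ * v⁻¹) by group]
    exact mul_mem hy ((mem_normalizer_iff.mp (hVXJ hv) _).mp (inv_mem hy))
  refine hKle.trans (sup_le le_sup_left (sup_le (inf_le_left.trans le_sup_left) le_sup_right))

end Cfsg.Lib.Sft
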