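import Cfsg.Agent.Components.Signalizer.Sft.Tools
import Cfsg.Agent.Coprime.FrobeniusFixed
import Cfsg.Agent.OddLocal.FixedPointFreeGroup

/-!
An element `x` of prime order `p` acting on a `q`-group `Y` and coprimely on a solvable group `W` on which
`Y` centralises the fixed points of `x`.
-/

set_option linter.style.haveILetI false
set_option linter.unusedSectionVars false

namespace Cfsg.Lib.Sft

open Subgroup Cfsg.Lib.Coprime
open scoped commutatorElement

universe u

variable {G : Type u} [Group G] [Finite G] {p q : ℕ} [hp : Fact p.Prime] [hq : Fact q.Prime]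

theorem mem_centralizer_zpowers {x g : G} (h : x * g = g * x) : g ∈ centralizer (zpowers x : Set G) := by
  rw [centralizer_zpowers]
  exact mem_centralizer_singleton_iff.mpr h.symm

theorem coprime_zpowers {x : G} (hx : x ^ p = 1) {n : ℕ} (hn : p.Coprime n) :
    (Nat.card (zpowers x)).Coprime n := by
  rw [Nat.card_zpowers]
  exact hn.coprime_dvd_left (orderOf_dvd_of_pow_eq_one hx)

theorem coprime_of_isPGroup {Y : Subgroup G} (hY : IsPGroup q Y) {n : ℕ} (hn : n.Coprime q) :
    (Nat.card Y).Coprime n := by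
  obtain ⟨k, hk⟩ := IsPGroup.iff_card.mp hY
  rw [hk]
  exact (hn.pow_right k).symm

/-- the fixed-point-free case -/
theorem fpf_le_centralizer {Y W : Subgroup G} {x : G} (hx : x ^ p = 1) (hY : IsPGroup q Y) (hqp : q ≠ p)
    (hxY : x ∈ normalizer (Y : Set G)) (hxW : x ∈ normalizer (W : Set G)) (hYW : Y ≤ normalizer (W : Set G))
    (hW : Group.IsSolvable W) (hWp : (Nat.card W).Coprime p) (hWq : (Nat.card W).Coprime q)
    (hYx : Y ⊓ centralizer ({x} : Set G) = ⊥)
    (hfix : W ⊓ centralizer ({x} : Set G) ≤ centralizer (Y : Set G)) : W ≤ centralizer (Y : Set G) := by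
  rcases eq_or_ne x 1 with rfl | hx1
  · refine le_trans ?_ hfix
    exact le_inf le_rfl fun g _ => mem_centralizer_singleton_iff.mpr (by simp)
  set E := zpowers x
  have hE : Nat.card E = p := by rw [Nat.card_zpowers, orderOf_eq_prime hx hx1]
  have hEY : E ≤ normalizer (Y : Set G) := zpowers_le.mpr hxY
  have hcopYE : (Nat.card Y).Coprime (Nat.card E) := by
    rw [hE]
    exact coprime_of_isPGroup hY ((Nat.coprime_primes hp.out hq.out).mpr (Ne.symm hqp))
  have hfpf : ∀ e ∈ E, e ≠ 1 → ∀ u ∈ Y, e * u = u * e → u = 1 := by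
    intro e he he1 u hu heu
    have hgen : zpowers e = E := by
      refine eq_of_le_of_card_ge (zpowers_le.mpr he) ?_
      rw [hE, Nat.card_zpowers, orderOf_eq_prime (p := p) ?_ he1]
      obtain ⟨k, rfl⟩ := mem_zpowers_iff.mp he
      rw [← zpow_natCast, ← zpow_mul, mul_comm, zpow_mul, zpow_natCast, hx, one_zpow]
    have h1 : x ∈ zpowers e := hgen ▸ mem_zpowers x
    obtain ⟨k, hk⟩ := mem_zpowers_iff.mp h1
    refine mem_bot.mp (hYx ▸ ⟨hu, mem_centralizer_singleton_iff.mpr ?_⟩)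
    rw [← hk]
    exact ((Commute.zpow_left heu k).eq).symm
  have hsup : (Nat.card W).Coprime (Nat.card ↥(Y ⊔ E)) := by
    rw [card_sup_coprime hEY hcopYE, hE]
    exact Nat.Coprime.mul_right (coprime_of_isPGroup hY hWq).symm hWp
  have key := Cfsg.Lib.FixedDim.frobenius_fixed_solvable Y E (Cfsg.Lib.Coprime.inf_eq_bot_of_coprime hcopYE) hEY hfpf
    (Nat.card W) W le_rfl (sup_le hYW (zpowers_le.mpr hxW)) hW hsup
  have heq : W ⊓ centralizer ((Y ⊔ E : Subgroup G) : Set G) = W ⊓ centralizer (E : Set G) := by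
    refine le_antisymm (inf_le_inf_left _ (centralizer_le (SetLike.coe_subset_coe.mpr le_sup_right))) ?_
    rintro w ⟨hw, hwE⟩
    refine ⟨hw, ?_⟩
    have hwY : w ∈ centralizer (Y : Set G) :=
      hfix ⟨hw, mem_centralizer_singleton_iff.mpr (mem_centralizer_iff.mp hwE x (mem_zpowers x)).symm⟩
    have hle : Y ⊔ E ≤ centralizer ({w} : Set G) := sup_le
      (fun y hy => mem_centralizer_singleton_iff.mpr (mem_centralizer_iff.mp hwY y hy))
      (fun e he => mem_centralizer_singleton_iff.mpr (mem_centralizer_iff.mp hwE e he))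
    exact mem_centralizer_iff.mpr fun g hg => mem_centralizer_singleton_iff.mp (hle hg)
  rw [heq] at key
  have h2 := Nat.eq_of_mul_eq_mul_left (pow_pos Nat.card_pos _) key
  have h3 := eq_of_le_of_card_ge (inf_le_left : W ⊓ centralizer (Y : Set G) ≤ W) h2.le
  exact h3 ▸ inf_le_right

/-- the elementary abelian case for odd `q` -/
theorem hh_elementary {ℓ : ℕ} [hℓ : Fact ℓ.Prime] {Y U : Subgroup G} {x : G} (hx : x ^ p = 1)
    (hY : IsPGroup q Y) (hq2 : q ≠ 2) (hqp : q ≠ p) (hℓp : p ≠ ℓ) (hqℓ : q ≠ ℓ)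
    [IsMulCommutative U] (hU : IsPGroup ℓ U)
    (hxY : x ∈ normalizer (Y : Set G)) (hxU : x ∈ normalizer (U : Set G)) (hYU : Y ≤ normalizer (U : Set G))
    (hfix : U ⊓ centralizer ({x} : Set G) ≤ centralizer (Y : Set G)) :
    ⁅Y, zpowers x⁆ ≤ centralizer (U : Set G) := by
  have hcop : (Nat.card Y).Coprime (Nat.card U) := by
    refine coprime_of_isPGroup hY ?_
    exact coprime_of_isPGroup hU ((Nat.coprime_primes hq.out hℓ.out).mpr hqℓ)
  obtain ⟨hbot, htop⟩ := abelian_coprime_decomp hYU hcop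
  set U' := ⁅U, Y⁆
  have hU'U : U' ≤ U := commutator_le_of_le_normalizer hYU
  have hxU' : x ∈ normalizer (U' : Set G) := by
    rw [← conjMap_eq_self_iff, conjMap, map_commutator]
    exact congrArg₂ _ (conjMap_eq_self hxU) (conjMap_eq_self hxY)
  have hfix' : U' ⊓ centralizer ({x} : Set G) = ⊥ := by
    rw [eq_bot_iff, ← hbot]
    rintro u ⟨hu, hux⟩
    exact ⟨⟨hU'U hu, hfix ⟨hU'U hu, hux⟩⟩, hu⟩
  have h1 := Cfsg.Lib.OddP.commutator_centralizes (p := ℓ) hp.out hq.out (Ne.symm hqp) hq2 hℓp hqℓ hx hY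
    (hU.to_le hU'U) hxY hxU' (le_normalizer_commutator_right Y U) hfix'
  have h2 : ⁅Y, zpowers x⁆ ≤ Y := commutator_le_of_le_normalizer (zpowers_le.mpr hxY)
  intro d hd
  have hle : U ≤ centralizer ({d} : Set G) := by
    rw [← htop]
    exact sup_le (fun u hu => mem_centralizer_singleton_iff.mpr (mem_centralizer_iff.mp hu.2 d (h2 hd)).symm)
      (fun u hu => mem_centralizer_singleton_iff.mpr (mem_centralizer_iff.mp (h1 hd) u hu))
  exact mem_centralizer_iff.mpr fun u hu => mem_centralizer_singleton_iff.mp (hle hu)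

omit hq in
/-- the image of a normalised subgroup in the quotient of a normaliser -/
theorem le_normalizer_map_mk {R A B : Subgroup G} (hA : A ≤ normalizer (R : Set G))
    (hBA : B ≤ normalizer (A : Set G)) :
    (B.subgroupOf (normalizer (R : Set G))).map (QuotientGroup.mk' (R.subgroupOf (normalizer (R : Set G))))
      ≤ normalizer (((A.subgroupOf (normalizer (R : Set G))).map
        (QuotientGroup.mk' (R.subgroupOf (normalizer (R : Set G)))) : Subgroup _) : Set _) := by
  rintro _ ⟨b, hb, rfl⟩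
  refine mem_normalizer_of_conj ?_
  rintro _ ⟨a, ha, rfl⟩
  rw [← map_inv, ← map_mul, ← map_mul]
  exact mem_map_of_mem _ ((mem_normalizer_iff.mp (hBA hb) _).mp ha)

/-- fixed points in the quotient by a coprimely acted subgroup come from fixed points -/
theorem exists_fixed_preimage {R N : Subgroup G} {x : G} (hx : x ^ p = 1)
    (hxR : x ∈ normalizer (R : Set G)) (hR : Group.IsSolvable R) (hRp : (Nat.card R).Coprime p)
    (hRN : R ≤ N) {k : G} (hk : k ∈ N) (hkR : k ∈ normalizer (R : Set G)) (hfix : ⁅k⁻¹, x⁆ ∈ R) :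
    ∃ c ∈ N, x * c = c * x ∧ k⁻¹ * c ∈ R := by
  have h1 : ∀ a ∈ zpowers x, k⁻¹ * a * k * a⁻¹ ∈ R := by
    intro a ha
    obtain ⟨n, rfl⟩ := mem_powers_iff_mem_zpowers.mpr ha
    clear ha
    induction n with
    | zero => simp
    | succ n ih =>
      have h2 : x * (k⁻¹ * x ^ n * k * (x ^ n)⁻¹) * x⁻¹ ∈ R := (mem_normalizer_iff.mp hxR _).mp ih
      have h3 : k⁻¹ * x * k * x⁻¹ ∈ R := by
        rwa [commutatorElement_def, inv_inv] at hfix
      have := mul_mem h3 h2
      simpa [pow_succ', mul_assoc] using this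
  obtain ⟨d, hd, hkd⟩ := exists_fixed_in_coset (zpowers_le.mpr hxR) (coprime_zpowers hx hRp.symm)
    (Or.inr hR) h1
  exact ⟨k * d, mul_mem hk (hRN hd), mem_centralizer_iff.mp hkd x (mem_zpowers x), by simpa using hd⟩

/-- the `ℓ`-group case for odd `q` -/
theorem hh_pgroup {ℓ : ℕ} [hℓ : Fact ℓ.Prime] {Y U : Subgroup G} {x : G} (hx : x ^ p = 1)
    (hY : IsPGroup q Y) (hq2 : q ≠ 2) (hqp : q ≠ p) (hℓp : p ≠ ℓ) (hqℓ : q ≠ ℓ) (hU : IsPGroup ℓ U)
    (hxY : x ∈ normalizer (Y : Set G)) (hxU : x ∈ normalizer (U : Set G)) (hYU : Y ≤ normalizer (U : Set G))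
    (hfix : U ⊓ centralizer ({x} : Set G) ≤ centralizer (Y : Set G)) :
    ⁅Y, zpowers x⁆ ≤ centralizer (U : Set G) := by
  set D := ⁅Y, zpowers x⁆
  have hDY : D ≤ Y := commutator_le_of_le_normalizer (zpowers_le.mpr hxY)
  haveI hUn : Group.IsNilpotent U := hU.isNilpotent
  set Φ := (frattini U).map U.subtype with hΦ
  set S := normalizer (Φ : Set G)
  have hchar : (frattini U).Characteristic := frattini_characteristic
  have hNS : normalizer (U : Set G) ≤ S := le_normalizer_map_char U _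
  have hΦU : Φ ≤ U := map_subtype_le _
  set π := QuotientGroup.mk' (Φ.subgroupOf S) with hπ
  have hUS : U ≤ S := le_normalizer.trans hNS
  set Ub := (U.subgroupOf S).map π
  haveI := Cfsg.Lib.PGroups.isMulCommutative_quotient_frattini hU
  haveI : IsMulCommutative Ub := by
    refine ⟨⟨fun a b => Subtype.ext ?_⟩⟩
    obtain ⟨_, ⟨a, ha, rfl⟩⟩ := a
    obtain ⟨_, ⟨b, hb, rfl⟩⟩ := b
    show π a * π b = π b * π a
    rw [← map_mul, ← map_mul]
    refine (QuotientGroup.eq).mpr ?_
    show ((a * b : S) : G)⁻¹ * ((b * a : S) : G) ∈ Φ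
    have h := (QuotientGroup.eq (s := frattini U) (a := (⟨a, ha⟩ : U) * ⟨b, hb⟩)
      (b := (⟨b, hb⟩ : U) * ⟨a, ha⟩)).mp (show (QuotientGroup.mk ((⟨a, ha⟩ : U) * ⟨b, hb⟩) : U ⧸ frattini U) =
        QuotientGroup.mk ((⟨b, hb⟩ : U) * ⟨a, ha⟩) by
          rw [QuotientGroup.mk_mul, QuotientGroup.mk_mul]; exact mul_comm' _ _)
    exact mem_map_of_mem U.subtype h
  have hUl : IsPGroup ℓ Ub := (hU.comap_of_injective S.subtype S.subtype_injective).map π
  have hYS : Y ≤ S := hYU.trans hNS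
  have hUp : (Nat.card U).Coprime p :=
    coprime_of_isPGroup hU ((Nat.coprime_primes hp.out hℓ.out).mpr hℓp)
  have hfix' : Ub ⊓ centralizer ({π ⟨x, hNS hxU⟩} : Set _) ≤
      centralizer (((Y.subgroupOf S).map π : Subgroup _) : Set _) := by
    rintro _ ⟨⟨k, hk, rfl⟩, hc⟩
    have h1 : π ⁅k⁻¹, (⟨x, hNS hxU⟩ : S)⁆ = 1 := by
      rw [map_commutatorElement, map_inv]
      exact commutatorElement_eq_one_iff_mul_comm.mpr
        (Commute.inv_left (mem_centralizer_singleton_iff.mp hc)).eq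
    obtain ⟨c, hcU, hcx, hkc⟩ := exists_fixed_preimage hx (hNS hxU)
      (isSolvable_of_le hΦU inferInstance) (Nat.Coprime.coprime_dvd_left (card_dvd_of_le hΦU) hUp) hΦU
      (mem_subgroupOf.mp hk) k.2 ((QuotientGroup.eq_one_iff (N := Φ.subgroupOf S) _).mp h1)
    have hkc' : π k = π ⟨c, hUS hcU⟩ := (QuotientGroup.eq).mpr hkc
    rw [hkc']
    refine mem_centralizer_iff.mpr ?_
    rintro _ ⟨y, hy, rfl⟩
    rw [← map_mul, ← map_mul]
    exact congrArg π (Subtype.ext (mem_centralizer_iff.mp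
      (hfix ⟨hcU, mem_centralizer_singleton_iff.mpr hcx.symm⟩) _ hy))
  have hxb : π (⟨x, hNS hxU⟩ : S) ^ p = 1 := by
    rw [← map_pow, show (⟨x, hNS hxU⟩ : S) ^ p = 1 from Subtype.ext hx, map_one]
  have hmem : ∀ A : Subgroup G, A ≤ S → x ∈ normalizer (A : Set G) →
      π ⟨x, hNS hxU⟩ ∈ normalizer (((A.subgroupOf S).map π : Subgroup _) : Set _) := fun A hA hn =>
    le_normalizer_map_mk hA (zpowers_le.mpr hn) (mem_map_of_mem π (mem_subgroupOf.mpr (mem_zpowers x)))
  have key := hh_elementary (U := Ub) hxb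
    ((hY.comap_of_injective S.subtype S.subtype_injective).map π) hq2 hqp hℓp hqℓ hUl
    (hmem Y hYS hxY) (hmem U hUS hxU) (le_normalizer_map_mk hUS hYU) hfix'
  refine le_centralizer_of_frattini (hDY.trans hYU) ?_ fun a ha k hk => ?_
  · refine Nat.Coprime.coprime_dvd_left (card_dvd_of_le hDY) ?_
    refine coprime_of_isPGroup hY (Nat.Coprime.coprime_dvd_left (card_subgroup_dvd_card _) ?_)
    exact coprime_of_isPGroup hU ((Nat.coprime_primes hq.out hℓ.out).mpr hqℓ)
  · have haS : a ∈ S := hYS (hDY ha)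
    have h2 : π ⟨a, haS⟩ ∈ ⁅(Y.subgroupOf S).map π, zpowers (π (⟨x, hNS hxU⟩ : S))⁆ := by
      have hDe : (D.subgroupOf S) = ⁅Y.subgroupOf S, zpowers (⟨x, hNS hxU⟩ : S)⁆ := by
        apply map_injective S.subtype_injective
        rw [map_commutator, map_subgroupOf_eq_of_le hYS, map_subgroupOf_eq_of_le (hDY.trans hYS),
          MonoidHom.map_zpowers]
        rfl
      have := mem_map_of_mem π (show (⟨a, haS⟩ : S) ∈ D.subgroupOf S from ha)
      rwa [hDe, map_commutator, MonoidHom.map_zpowers] at this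
    have h3 := mem_centralizer_iff.mp (key h2) (π ⟨k, hUS hk⟩)
      (mem_map_of_mem π (show (⟨k, hUS hk⟩ : S) ∈ U.subgroupOf S from hk))
    have h4 : π ⁅(⟨a, haS⟩ : S), (⟨k, hUS hk⟩ : S)⁆ = 1 := by
      rw [map_commutatorElement]
      exact commutatorElement_eq_one_iff_mul_comm.mpr h3.symm
    exact (QuotientGroup.eq_one_iff (N := Φ.subgroupOf S) _).mp h4

omit hp hq in
/-- a coprime operator group centralising every `O_ℓ(W)` centralises the solvable group `W` -/
theorem le_centralizer_of_qcores {D W : Subgroup G} (hW : Group.IsSolvable W)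
    (hDW : D ≤ normalizer (W : Set G)) (hcop : (Nat.card D).Coprime (Nat.card W))
    (h : ∀ ℓ : ℕ, ℓ.Prime → D ≤ centralizer (qcore ℓ W : Set G)) : D ≤ centralizer (W : Set G) := by
  haveI := hW
  set F := (Cfsg.fittingSubgroup W).map W.subtype with hF
  have hDF : D ≤ centralizer (F : Set G) := by
    intro d hd
    have hle : F ≤ centralizer ({d} : Set G) := by
      rw [hF, Cfsg.Lib.Components.fitting_eq_iSup_pCore, Subgroup.map_iSup]
      exact iSup_le fun ℓ x hx => mem_centralizer_singleton_iff.mpr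
        (mem_centralizer_iff.mp (h ℓ.1 ℓ.2 hd) x hx)
    exact mem_centralizer_iff.mpr fun x hx => mem_centralizer_singleton_iff.mp (hle hx)
  have hWF : W ≤ normalizer (F : Set G) := by
    intro w hw
    refine mem_normalizer_of_conj ?_
    rintro _ ⟨f, hf, rfl⟩
    exact ⟨⟨w, hw⟩ * f * ⟨w, hw⟩⁻¹, Normal.conj_mem inferInstance f hf _, rfl⟩
  have hbot : ⁅⁅W, D⁆, F⁆ = ⊥ := by
    refine commutator_commutator_eq_bot_of_rotate ?_ ?_
    · rw [commutator_eq_bot_iff_le_centralizer.mpr hDF, commutator_bot_left]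
    · refine commutator_eq_bot_iff_le_centralizer.mpr ?_
      refine le_trans ?_ (le_centralizer_iff.mp hDF)
      exact le_normalizer_iff_commutator_le_left.mp hWF
  have h2 : ⁅W, D⁆ ≤ F := by
    intro z hz
    have hzW : z ∈ W := commutator_le_of_le_normalizer hDW hz
    refine ⟨⟨z, hzW⟩, centralizer_fitting_le (G := ↥W) (mem_centralizer_iff.mpr fun f hf => ?_), rfl⟩
    exact Subtype.ext (mem_centralizer_iff.mp (commutator_eq_bot_iff_le_centralizer.mp hbot hz) _
      (mem_map_of_mem _ hf))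
  have h3 : ⁅⁅W, D⁆, D⁆ = ⊥ :=
    eq_bot_iff.mpr ((commutator_mono h2 le_rfl).trans
      (by rw [commutator_eq_bot_iff_le_centralizer.mpr (le_centralizer_iff.mp hDF)]))
  rw [commutator_commutator_eq hDW hcop (Or.inr hW), commutator_comm,
    commutator_eq_bot_iff_le_centralizer] at h3
  exact h3

/-- **Hall–Higman for odd `q`**, solvable form -/
theorem hh_le_centralizer {Y W : Subgroup G} {x : G} (hx : x ^ p = 1) (hY : IsPGroup q Y) (hq2 : q ≠ 2)
    (hqp : q ≠ p) (hxY : x ∈ normalizer (Y : Set G)) (hxW : x ∈ normalizer (W : Set G))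
    (hYW : Y ≤ normalizer (W : Set G)) (hW : Group.IsSolvable W) (hWp : (Nat.card W).Coprime p)
    (hWq : (Nat.card W).Coprime q)
    (hfix : W ⊓ centralizer ({x} : Set G) ≤ centralizer (Y : Set G)) :
    W ≤ centralizer ((⁅Y, zpowers x⁆ : Subgroup G) : Set G) := by
  have hDY : ⁅Y, zpowers x⁆ ≤ Y := commutator_le_of_le_normalizer (zpowers_le.mpr hxY)
  refine le_centralizer_iff.mpr (le_centralizer_of_qcores hW (hDY.trans hYW)
    (Nat.Coprime.coprime_dvd_left (card_dvd_of_le hDY) (coprime_of_isPGroup hY hWq)) fun ℓ hℓ => ?_)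
  haveI := Fact.mk hℓ
  by_cases hdvd : ℓ ∣ Nat.card W
  · refine hh_pgroup hx hY hq2 hqp ?_ ?_ isPGroup_qcore hxY (le_normalizer_qcore hxW)
      (hYW.trans le_normalizer_qcore) (le_trans (inf_le_inf_right _ qcore_le) hfix)
    · rintro rfl
      exact hℓ.ne_one (Nat.eq_one_of_dvd_coprimes hWp hdvd dvd_rfl)
    · rintro rfl
      exact hℓ.ne_one (Nat.eq_one_of_dvd_coprimes hWq hdvd dvd_rfl)
  · have : qcore ℓ W = ⊥ := by
      rw [qcore, Cfsg.Lib.Components.pCore_eq_bot_of_not_dvd hdvd, Subgroup.map_bot]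
    rw [this, coe_bot]
    exact fun g _ => mem_centralizer_iff.mpr fun y hy => by
      rw [Set.mem_singleton_iff] at hy; simp [hy]

theorem coprime_relIndex_qqcore {K : Subgroup G} :
    ((qcore q K).relIndex (qqcore q K)).Coprime q := by
  unfold qcore qqcore
  erw [relIndex_map_map_of_injective (H := Cfsg.pCore q K) (K := (Cfsg.pPrimeCore q (↥K ⧸ Cfsg.pCore q K)).comap
    (QuotientGroup.mk' (Cfsg.pCore q K))) K.subtype_injective]
  set π := QuotientGroup.mk' (Cfsg.pCore q K)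
  have h : Cfsg.pCore q K = (⊥ : Subgroup (↥K ⧸ Cfsg.pCore q K)).comap π := by
    rw [MonoidHom.comap_bot, QuotientGroup.ker_mk']
  conv => arg 1; arg 1; rw [h]
  rw [relIndex_comap, map_comap_eq_self_of_surjective (QuotientGroup.mk'_surjective _), relIndex_bot_left]
  exact Cfsg.Lib.Components.coprime_card_pPrimeCore q

/-- the moved part of `Y` centralises a section: both cases -/
theorem section_commutator {R Y N : Subgroup G} {x : G} (hx : x ^ p = 1) (hY : IsPGroup q Y) (hqp : q ≠ p)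
    (hRN : R ≤ N) (hNR : N ≤ normalizer (R : Set G)) (hYR : Y ≤ normalizer (R : Set G))
    (hxR : x ∈ normalizer (R : Set G)) (hxY : x ∈ normalizer (Y : Set G)) (hxN : x ∈ normalizer (N : Set G))
    (hYN : Y ≤ normalizer (N : Set G)) (hN : Group.IsSolvable N) (hNp : (Nat.card N).Coprime p)
    (hNq : (R.relIndex N).Coprime q)
    (hfix : ∀ c ∈ N, x * c = c * x → ∀ y ∈ Y, ⁅y, c⁆ ∈ R)
    (hcase : q ≠ 2 ∨ (∀ a ∈ Y, ∀ b ∈ Y, a * b = b * a) ∨ (R ≤ Y ∧ Y ⊓ centralizer ({x} : Set G) ≤ R)) :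
    ∀ y ∈ ⁅Y, zpowers x⁆, ∀ n ∈ N, ⁅y, n⁆ ∈ R := by
  classical
  set S := normalizer (R : Set G)
  set π := QuotientGroup.mk' (R.subgroupOf S)
  set xb := π ⟨x, hxR⟩
  have hxb : xb ^ p = 1 := by
    rw [← map_pow, show (⟨x, hxR⟩ : S) ^ p = 1 from Subtype.ext hx, map_one]
  set Nb := (N.subgroupOf S).map π
  set Yb := (Y.subgroupOf S).map π
  have hcardN : Nat.card Nb = R.relIndex N := by
    have h : R.subgroupOf S = (⊥ : Subgroup (↥S ⧸ R.subgroupOf S)).comap π := by
      rw [MonoidHom.comap_bot, QuotientGroup.ker_mk']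
    rw [← relIndex_bot_left Nb, ← relIndex_comap, ← h, relIndex_subgroupOf hNR]
  have hNbp : (Nat.card Nb).Coprime p := by
    rw [hcardN]
    exact Nat.Coprime.coprime_dvd_left (relIndex_dvd_card _ _) hNp
  have hNbq : (Nat.card Nb).Coprime q := by rw [hcardN]; exact hNq
  have hNbs : Group.IsSolvable Nb := by
    haveI := hN
    refine isSolvable_map ?_ π
    exact Group.isSolvable_of_surjective (f := (subgroupOfEquivOfLe hNR).symm.toMonoidHom)
      (subgroupOfEquivOfLe hNR).symm.surjective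
  have hmem : ∀ A : Subgroup G, A ≤ S → x ∈ normalizer (A : Set G) →
      xb ∈ normalizer (((A.subgroupOf S).map π : Subgroup _) : Set _) := fun A hA hn =>
    le_normalizer_map_mk hA (zpowers_le.mpr hn) (mem_map_of_mem π (mem_subgroupOf.mpr (mem_zpowers x)))
  have hRs : Group.IsSolvable R := isSolvable_of_le hRN hN
  have hfix' : Nb ⊓ centralizer ({xb} : Set _) ≤ centralizer (Yb : Set _) := by
    rintro _ ⟨⟨k, hk, rfl⟩, hc⟩
    have h1 : π ⁅k⁻¹, (⟨x, hxR⟩ : S)⁆ = 1 := by
      rw [map_commutatorElement, map_inv]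
      exact commutatorElement_eq_one_iff_mul_comm.mpr
        (Commute.inv_left (mem_centralizer_singleton_iff.mp hc)).eq
    obtain ⟨c, hcN, hcx, hkc⟩ := exists_fixed_preimage hx hxR hRs
      (Nat.Coprime.coprime_dvd_left (card_dvd_of_le hRN) hNp) hRN
      (mem_subgroupOf.mp hk) k.2 ((QuotientGroup.eq_one_iff (N := R.subgroupOf S) _).mp h1)
    have hkc' : π k = π ⟨c, hNR hcN⟩ := (QuotientGroup.eq).mpr hkc
    rw [hkc']
    refine mem_centralizer_iff.mpr ?_
    rintro _ ⟨y, hy, rfl⟩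
    refine commutatorElement_eq_one_iff_mul_comm.mp ?_
    rw [← map_commutatorElement]
    exact (QuotientGroup.eq_one_iff _).mpr (hfix c hcN hcx _ hy)
  have hYb : IsPGroup q Yb := (hY.comap_of_injective S.subtype S.subtype_injective).map π
  have key : Nb ≤ centralizer ((⁅Yb, zpowers xb⁆ : Subgroup _) : Set _) := by
    by_cases hq2 : q ≠ 2
    · exact hh_le_centralizer hxb hYb hq2 hqp (hmem Y hYR hxY) (hmem N hNR hxN)
        (le_normalizer_map_mk hNR hYN) hNbs hNbp hNbq hfix'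
    have hxn : zpowers xb ≤ normalizer (Yb : Set _) := zpowers_le.mpr (hmem Y hYR hxY)
    have hcop : (Nat.card (zpowers xb)).Coprime (Nat.card Yb) :=
      coprime_zpowers hxb (coprime_of_isPGroup hYb ((Nat.coprime_primes hp.out hq.out).mpr (Ne.symm hqp))).symm
    have hD : ⁅Yb, zpowers xb⁆ ≤ Yb := commutator_le_of_le_normalizer hxn
    refine fpf_le_centralizer hxb (hYb.to_le hD) hqp
      ((le_normalizer_commutator_right (zpowers xb) Yb) (mem_zpowers xb)) (hmem N hNR hxN)
      (hD.trans (le_normalizer_map_mk hNR hYN)) hNbs hNbp hNbq ?_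
      (hfix'.trans (centralizer_le (SetLike.coe_subset_coe.mpr hD)))
    rcases hcase.resolve_left hq2 with hc | ⟨hRY, hYx⟩
    · haveI : IsMulCommutative Yb := by
        refine ⟨⟨fun a b => Subtype.ext ?_⟩⟩
        obtain ⟨_, ⟨a, ha, rfl⟩⟩ := a
        obtain ⟨_, ⟨b, hb, rfl⟩⟩ := b
        show π a * π b = π b * π a
        rw [← map_mul, ← map_mul]
        exact congrArg π (Subtype.ext (hc _ ha _ hb))
      rw [eq_bot_iff, ← (abelian_coprime_decomp hxn hcop).1, centralizer_zpowers]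
      exact fun a ha => ⟨⟨hD ha.1, ha.2⟩, ha.1⟩
    · rw [eq_bot_iff]
      rintro a ⟨ha, hax⟩
      obtain ⟨k, hk, rfl⟩ := hD ha
      have h1 : π ⁅k⁻¹, (⟨x, hxR⟩ : S)⁆ = 1 := by
        rw [map_commutatorElement, map_inv]
        exact commutatorElement_eq_one_iff_mul_comm.mpr
          (Commute.inv_left (mem_centralizer_singleton_iff.mp hax)).eq
      obtain ⟨c, hcY, hcx, hkc⟩ := exists_fixed_preimage hx hxR hRs
        (Nat.Coprime.coprime_dvd_left (card_dvd_of_le hRN) hNp) hRY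
        (mem_subgroupOf.mp hk) k.2 ((QuotientGroup.eq_one_iff (N := R.subgroupOf S) _).mp h1)
      have hcR : c ∈ R := hYx ⟨hcY, mem_centralizer_singleton_iff.mpr hcx.symm⟩
      have hkR : (k : G) ∈ R := by
        have := mul_mem hcR (inv_mem hkc)
        rwa [mul_inv_rev, inv_inv, mul_inv_cancel_left] at this
      exact mem_bot.mpr ((QuotientGroup.eq_one_iff (N := R.subgroupOf S) _).mpr hkR)
  intro y hy n hn
  have hyY : y ∈ Y := commutator_le_of_le_normalizer (zpowers_le.mpr hxY) hy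
  have h2 : π ⟨y, hYR hyY⟩ ∈ ⁅Yb, zpowers xb⁆ := by
    have hxe : zpowers x = (zpowers (⟨x, hxR⟩ : S)).map S.subtype := by rw [MonoidHom.map_zpowers]; rfl
    have hDe : (⁅Y, zpowers x⁆.subgroupOf S) = ⁅Y.subgroupOf S, zpowers (⟨x, hxR⟩ : S)⁆ := by
      apply map_injective S.subtype_injective
      rw [map_commutator, map_subgroupOf_eq_of_le hYR, ← hxe,
        map_subgroupOf_eq_of_le ((commutator_le_of_le_normalizer (zpowers_le.mpr hxY)).trans hYR)]
    have := mem_map_of_mem π (show (⟨y, hYR hyY⟩ : S) ∈ ⁅Y, zpowers x⁆.subgroupOf S from hy)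
    rwa [hDe, map_commutator, MonoidHom.map_zpowers] at this
  have h3 := mem_centralizer_iff.mp (key (mem_map_of_mem π (show (⟨n, hNR hn⟩ : S) ∈ N.subgroupOf S from hn)))
    _ h2
  have h4 : π ⁅(⟨y, hYR hyY⟩ : S), (⟨n, hNR hn⟩ : S)⁆ = 1 := by
    rw [map_commutatorElement]
    exact commutatorElement_eq_one_iff_mul_comm.mpr h3
  exact (QuotientGroup.eq_one_iff (N := R.subgroupOf S) _).mp h4

end Cfsg.Lib.Sft
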