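import Cfsg.Agent.Components.Signalizer.Sft.Main

/-!
A group of order prime to `p` acted on by an elementary abelian group of order at least `p³` with solvable
centralisers is solvable.
-/

set_option linter.style.haveILetI false

namespace Cfsg.Lib.Sft

open Subgroup Cfsg.Lib.Coprime Cfsg.Lib.Signalizer

universe u

variable {G : Type u} [Group G] [Finite G] {p : ℕ} [hp : Fact p.Prime]

theorem isSolvable_of_solvable_centralizers {A K : Subgroup G} (hA : Cfsg.IsElementaryAbelian p A)
    (hA3 : p ^ 3 ≤ Nat.card A) (hAK : A ≤ normalizer (K : Set G)) (hK : (Nat.card K).Coprime p)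
    (hsol : ∀ a ∈ A, a ≠ 1 → Group.IsSolvable ↥(K ⊓ centralizer ({a} : Set G))) : Group.IsSolvable K := by
  set θ : G → Subgroup G := fun a => K ⊓ centralizer ({a} : Set G)
  have hKp : ¬ p ∣ Nat.card K := hp.out.coprime_iff_not_dvd.mp hK.symm
  have hθ : Cfsg.IsSolvableSignalizerFunctor p A θ := by
    refine ⟨⟨fun a _ _ => inf_le_right, fun a _ _ hd => hKp (hd.trans (card_dvd_of_le inf_le_left)),
      fun a ha _ b hb x hx => ?_, fun a _ _ b _ _ => inf_le_inf_right _ inf_le_left⟩, hsol⟩
    refine (mem_normalizer_iff.mp (le_normalizer_inf hAK (fun c hc => le_normalizer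
      (mem_centralizer_singleton_iff.mpr (Cfsg.Lib.Signalizer.comm hA hc ha))) hb) x).mp hx
  obtain ⟨W, hW, hle⟩ := exists_member hA hA3 hθ
  refine isSolvable_of_le ?_ hW.1
  have hA2 : p ^ 2 ≤ Nat.card A := le_trans (Nat.pow_le_pow_right hp.out.pos (by norm_num)) hA3
  refine (Cfsg.Agent.S1324.result p A K hA hA2 hKp hAK).le.trans (iSup_le fun B => ?_)
  obtain ⟨e, heB, he1⟩ := exists_ne_one (B := (B : Subgroup G)) fun h => by
    have h1 := B.2.2
    rw [h, relIndex_bot_left] at h1
    have h2 : p ^ 3 ≤ p ^ 1 := by rw [pow_one]; exact hA3.trans h1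
    exact absurd ((Nat.pow_le_pow_iff_right hp.out.one_lt).mp h2) (by norm_num)
  exact (inf_le_inf_left K (centralizer_le (Set.singleton_subset_iff.mpr heB))).trans
    (hle e (B.2.1 heB) he1)

end Cfsg.Lib.Sft
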