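import Cfsg.Agent.Components.Signalizer.Sft.Moves

/-!
The case of a central subgroup of a maximal `2`-member centralised by `A`.
-/

set_option linter.style.haveILetI false
set_option linter.unusedSectionVars false

namespace Cfsg.Lib.Sft

open Subgroup Cfsg.Lib.Coprime Cfsg.Lib.Signalizer
open scoped commutatorElement

universe u

variable {G : Type u} [Group G] [Finite G] {p : ℕ} [hp : Fact p.Prime] {A : Subgroup G}
  {θ : G → Subgroup G}

local notation "𝓕" => Cfsg.signalizerFamily p A θ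
local notation "T" => Cfsg.signalizerInf A θ

theorem mem_normalizer_commutator' {X Y : Subgroup G} {g : G} (hX : g ∈ normalizer (X : Set G))
    (hY : g ∈ normalizer (Y : Set G)) : g ∈ normalizer ((⁅X, Y⁆ : Subgroup G) : Set G) := by
  rw [← conjMap_eq_self_iff, conjMap, map_commutator]
  exact congrArg₂ _ (conjMap_eq_self hX) (conjMap_eq_self hY)

/-- every point off a proper line is fine: contradiction -/
theorem false_of_fine_off_line (S : Critical p A θ) {r : ℕ} [Fact r.Prime] (hr2 : r ≠ 2)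
    (hP : good p r A θ ≠ ⊥) {B : Subgroup G} (hB : IsLine p A B) (hBA : ¬ A ≤ B)
    (hf : ∀ e ∈ A, e ∉ B → Fine p r A θ e) : False := by
  obtain ⟨h, hhB, hh, hh1⟩ := exists_ne_one_of_line hB
  obtain ⟨W, hW, hWn, hWmax⟩ := exists_greatest S (good_mem_family S.toSetting) hP
  refine not_moved_le S hh hh1 hW (iSup_le fun D => ?_)
  obtain ⟨D, hD⟩ := D
  have hDfam := inf_mem_family S.functor hD.1 (ne_bot_of_line hD)
  by_cases hhD : h ∈ D
  · refine (eq_bot_iff.mp (commutator_eq_bot_iff_le_centralizer.mpr ?_)).trans bot_le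
    exact (inf_le_centralizer S.functor hD.1).trans
      (centralizer_le (SetLike.coe_subset_coe.mpr (zpowers_le.mpr hhD)))
  refine (commutator_le_of_le_normalizer (zpowers_le_normalizer hDfam hh)).trans (hWmax _ hDfam ?_)
  have cardB : ∀ L : Subgroup G, IsLine p A L → ¬ A ≤ L → Nat.card L = p ^ 2 := by
    intro L hL hLA
    obtain ⟨i, hi, ei⟩ := (Nat.dvd_prime_pow hp.out).mp (S.card ▸ card_dvd_of_le hL.1)
    have h2 : 2 ≤ i := (Nat.pow_le_pow_iff_right hp.out.one_lt).mp (ei ▸ hL.2)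
    have h3 : i ≠ 3 := fun e => hLA (eq_of_le_of_card_ge hL.1 (by rw [S.card, ei, e])).ge
    rw [ei, show i = 2 by omega]
  have hDA : ¬ A ≤ D := fun hle => hhD (hle hh)
  have hcD := cardB D hD hDA
  have hcB := cardB B hB hBA
  obtain ⟨d, hdD, hdB⟩ : ∃ d ∈ D, d ∉ B := by
    by_contra hc
    push Not at hc
    exact hhD ((eq_of_le_of_card_ge (K := B) hc (by rw [hcD, hcB])).symm ▸ hhB)
  obtain ⟨k, hkD, hkB, hk, hk1⟩ := exists_meet S.toSetting hD hB
  have hd1 : d ≠ 1 := fun e => hdB (e ▸ one_mem B)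
  have hdkB : d * k ∉ B := fun hc => hdB (by simpa using mul_mem hc (inv_mem hkB))
  have hdk1 : d * k ≠ 1 := fun e => hdkB (e ▸ one_mem B)
  refine line_le_normalizer_of_two S hr2 hD hdD (mul_mem hdD hkD) hd1 hdk1 (hf d (hD.1 hdD) hdB)
    (hf _ (mul_mem (hD.1 hdD) hk) hdkB) fun D' _ hd' hdk' => ?_
  have hk' : k ∈ D' := by simpa [mul_assoc] using mul_mem (inv_mem hd') hdk'
  set E := zpowers k ⊔ zpowers d
  have hED : E ≤ D := sup_le (zpowers_le.mpr hkD) (zpowers_le.mpr hdD)
  have hck : Nat.card (zpowers k) = p := by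
    rw [Nat.card_zpowers, orderOf_eq_prime (p := p) (pow_eq_one S.toSetting hk) hk1]
  have hlt : p < Nat.card E := by
    refine Nat.lt_of_not_le fun hle => hdB (zpowers_le.mpr hkB ?_)
    exact (eq_of_le_of_card_ge (le_sup_left : zpowers k ≤ E) (hck.symm ▸ hle)).symm ▸
      mem_sup_right (mem_zpowers d)
  obtain ⟨i, hi, ei⟩ := (Nat.dvd_prime_pow hp.out).mp (hcD ▸ card_dvd_of_le hED)
  have h2 : 1 < i := (Nat.pow_lt_pow_iff_right hp.out.one_lt).mp (by rw [pow_one, ← ei]; exact hlt)
  have hDE : D ≤ E := (eq_of_le_of_card_ge hED (by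
    rw [hcD, ei]; exact Nat.pow_le_pow_right hp.out.pos h2)).ge
  exact hDE.trans (sup_le (zpowers_le.mpr hk') (zpowers_le.mpr hd'))

theorem eq_bot_of_lines_normalize (S : Critical p A θ) {X : Subgroup G} (hX : X ∈ 𝓕)
    (h : ∀ B, IsLine p A B → Cfsg.signalizerInf B θ ≤ normalizer (X : Set G)) : X = ⊥ := by
  refine S.noNormal X hX fun a ha ha1 => ?_
  have hθ := theta_mem_family S.functor ha ha1
  refine le_of_lines S.toSetting hθ.2.1 (le_normalizer_of_mem_family hθ) fun B hB x hx => ?_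
  exact h B hB (mem_inf_iff.mpr fun e he he1 => inf_centralizer_le hθ (hB.1 he) he1 he hx)

/-- a central subgroup of a maximal `2`-member centralised by `A` yields good `2`-elements -/
theorem false_of_central (S : Critical p A θ) (hP2 : good p 2 A θ = ⊥) {Q : Subgroup G} (hQ : Q ∈ 𝓕)
    (hQq : IsPGroup 2 Q) (hQm : ∀ R ∈ 𝓕, IsPGroup 2 R → Q ≤ R → R = Q) {V : Subgroup G}
    (hVdef : V = Q ⊓ centralizer (Q : Set G)) (hVA : V ≤ centralizer (A : Set G)) (hV1 : V ≠ ⊥) :
    False := by
  have hVQ : V ≤ Q := hVdef ▸ inf_le_left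
  have hVc : V ≤ centralizer (Q : Set G) := hVdef ▸ inf_le_right
  have hAV : A ≤ normalizer (V : Set G) := fun a ha => Cfsg.Lib.Sft.mem_normalizer_of_conj fun v hv => by
    rwa [show a * v = v * a from mem_centralizer_iff.mp (hVA hv) a ha, mul_inv_cancel_right]
  have hAC : A ≤ normalizer (centralizer (V : Set G) : Set G) := hAV.trans le_normalizer_centralizer
  have hVfam : V ∈ 𝓕 := mem_family_of_le hQ hVQ hAV
  have hVq : IsPGroup 2 V := hQq.to_le hVQ
  have hVθ : ∀ {a}, a ∈ A → a ≠ 1 → V ≤ θ a := fun {a} ha ha1 =>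
    ((le_inf le_rfl hVA).trans (inf_centralizer_le_inf hVfam)).trans (inf_le_theta S.toSetting ha ha1)
  have hzA : ∀ {a}, a ∈ A → ∀ {z}, z ∈ V → a * z = z * a := fun {a} ha {z} hz =>
    mem_centralizer_iff.mp (hVA hz) a ha
  obtain ⟨a₀, ha₀, ha₀1⟩ := exists_ne_one (A_ne_bot S.toSetting)
  have hqe : ∃ a ∈ A, a ≠ 1 ∧ 2 ∣ Nat.card (θ a) :=
    ⟨a₀, ha₀, ha₀1, dvd_of_ne_bot hVq hV1 (hVθ ha₀ ha₀1)⟩
  have hsyl : ∀ a ∈ A, a ≠ 1 → IsSylowOf 2 (Q ⊓ centralizer {a}) (θ a) := by
    intro a ha ha1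
    obtain ⟨P, hP⟩ := (sylow_of_max S.elem S.card.ge S.functor hqe hQ hQq hQm).2 (zpowers a)
      (zpowers_le.mpr ha) (by simpa using ha1)
    have e : Cfsg.signalizerInf (zpowers a) θ = θ a := by
      refine le_antisymm (fun x hx => mem_inf_iff.mp hx a (mem_zpowers a) ha1) fun x hx => ?_
      refine mem_inf_iff.mpr fun b hb hb1 => S.functor.1.2.2.2 a ha ha1 b ((zpowers_le.mpr ha) hb) hb1
        ⟨hx, ?_⟩
      obtain ⟨k, rfl⟩ := mem_zpowers_iff.mp hb
      exact mem_centralizer_singleton_iff.mpr (Commute.zpow_right (theta_commute S.toSetting ha ha1 hx) k).eq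
    rw [centralizer_zpowers] at hP
    rw [← hP, ← e]
    exact isSylowOf_of_sylow P rfl
  have hsylc : ∀ {a : G}, ∀ x ∈ Q ⊓ centralizer ({a} : Set G), ∀ z ∈ V, x * z = z * x :=
    fun {a} x hx z hz => mem_centralizer_iff.mp (hVc hz) x hx.1
  have hV1' : ∀ a ∈ A, a ≠ 1 → ∀ O : Subgroup G, O ≤ θ a → (Nat.card O).Coprime 2 →
      V ≤ normalizer (O : Set G) → ⁅O, V⁆ ≤ qcore' 2 (θ a) := by
    intro a ha ha1 O hO hOq hVO
    rw [commutator_le]
    intro o ho z hz
    exact commutator_mem_qcore' (S.functor.2 a ha ha1) (hsyl a ha ha1) hO hOq (hVθ ha ha1 hz)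
      (fun x hx => hsylc x hx z hz) (hVO hz) ho
  have hdec : ∀ a ∈ A, a ≠ 1 → ∀ O : Subgroup G, O ≤ θ a → (Nat.card O).Coprime 2 →
      V ≤ normalizer (O : Set G) → O ≤ qcore' 2 (θ a) ⊔ (θ a ⊓ centralizer (V : Set G)) := by
    intro a ha ha1 O hO hOq hVO
    rw [← commutator_sup_centralizer hVO (coprime_of_isPGroup hVq hOq)
      (Or.inr (isSolvable_of_le hO (S.functor.2 a ha ha1)))]
    exact sup_le_sup (hV1' a ha ha1 O hO hOq hVO) (inf_le_inf_right _ hO)
  have hC : ∀ {b : G}, b ∈ A → V ≤ normalizer (centralizer ({b} : Set G) : Set G) := fun {b} hb z hz =>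
    le_normalizer (mem_centralizer_singleton_iff.mpr (hzA hb hz).symm)
  have hCA : ∀ {b : G}, b ∈ A → A ≤ normalizer (centralizer ({b} : Set G) : Set G) := fun {b} hb c hc =>
    le_normalizer (mem_centralizer_singleton_iff.mpr (Cfsg.Lib.Signalizer.comm S.elem hc hb))
  have hO' : ∀ a ∈ A, a ≠ 1 → A ≤ normalizer (qcore' 2 (θ a) : Set G) := fun a ha ha1 =>
    (le_normalizer_of_mem_family (theta_mem_family S.functor ha ha1)).trans le_normalizer_qcore'
  have hgood : ∀ z : G, (∀ a ∈ A, a ≠ 1 → z ∈ qcore 2 (θ a)) → z = 1 := fun z hz =>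
    mem_bot.mp (hP2 ▸ mem_good_of_line S.toSetting (isLine_top S.toSetting) fun d hd _ hd1 => hz d hd hd1)
  have hcore : ∀ z ∈ V, ∀ a ∈ A, a ≠ 1 → (∀ o ∈ qcore' 2 (θ a), o * z = z * o) →
      z ∈ qcore 2 (θ a) := by
    intro z hz a ha ha1 hc
    have hzθ := hVθ ha ha1 hz
    haveI := S.functor.2 a ha ha1
    rw [mem_qcore_iff hzθ]
    refine mem_pCore_of_centralizes_fitting ?_ fun r hr x hx => Subtype.ext ?_
    · exact (hVq.comap_of_injective (θ a).subtype (θ a).subtype_injective).to_le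
        (zpowers_le.mpr (mem_subgroupOf.mpr hz))
    by_cases hr2 : r = 2
    · subst hr2
      obtain ⟨P, hP⟩ := exists_sylow (hsyl a ha ha1)
      exact hsylc _ (show (x : G) ∈ Q ⊓ centralizer {a} from (hP ▸ pCore_le_sylow 2 P hx :)) z hz
    · haveI := Fact.mk hr
      exact hc _ (mem_map_of_mem _ (Cfsg.Lib.Coprime.pCore_le_pPrimeCore Nat.prime_two hr2 hx))
  set ψ : G → Subgroup G := fun a => qcore' 2 (θ a) ⊔ (θ a ⊓ centralizer (V : Set G))
  have hψθ : ∀ a ∈ A, a ≠ 1 → ψ a ≤ θ a := fun a _ _ => sup_le qcore'_le inf_le_left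
  by_cases hEq : ∀ a ∈ A, a ≠ 1 → ψ a = θ a
  · -- `V` acts trivially on every `O_{2'}`
    obtain ⟨Wv, hWv, hWvn, hWvmax⟩ := exists_greatest S hVfam hV1
    set MV := Wv ⊓ centralizer (V : Set G)
    have hMV : MV ∈ 𝓕 := mem_family_inf S.toSetting hWv hAC
    set π : Set ℕ := {r | r ≠ 2}
    obtain ⟨H, hH, hAH, -⟩ := exists_invariantHall_ge (le_normalizer_of_mem_family hMV)
      (coprime_card S.elem hMV.2.1) hMV.1 (U := ⊥) (π := π) bot_le
      (fun _ hb => Cfsg.Lib.Sft.mem_normalizer_of_conj fun x hx => by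
        rw [mem_bot] at hx ⊢; rw [hx, mul_one, mul_inv_cancel]) (fun r hr hd => by
        rw [card_bot] at hd; exact absurd hd hr.not_dvd_one)
    set ψ₂ : G → Subgroup G := fun a => ⁅qcore' 2 (θ a), V⁆ ⊔ (H ⊓ centralizer {a})
    have hVO : ∀ a ∈ A, a ≠ 1 → V ≤ normalizer (qcore' 2 (θ a) : Set G) := fun a ha ha1 =>
      (hVθ ha ha1).trans (le_normalizer.trans le_normalizer_qcore')
    have hKO : ∀ a ∈ A, a ≠ 1 → ⁅qcore' 2 (θ a), V⁆ ≤ qcore' 2 (θ a) := fun a ha ha1 =>
      commutator_le_of_le_normalizer (hVO a ha ha1)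
    have hKn : ∀ a ∈ A, a ≠ 1 → θ a ≤ normalizer ((⁅qcore' 2 (θ a), V⁆ : Subgroup G) : Set G) := by
      intro a ha ha1
      refine (hEq a ha ha1).ge.trans (sup_le (le_normalizer_commutator_left V _) fun g hg => ?_)
      refine mem_normalizer_commutator' (le_normalizer_qcore' (le_normalizer hg.1))
        (Cfsg.Lib.Sft.mem_normalizer_of_conj fun v hv => ?_)
      rw [← mem_centralizer_iff.mp hg.2 v hv, mul_inv_cancel_right]
      exact hv
    have hKA : ∀ a ∈ A, a ≠ 1 → A ≤ normalizer ((⁅qcore' 2 (θ a), V⁆ : Subgroup G) : Set G) :=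
      fun a ha ha1 b hb => mem_normalizer_commutator' (hO' a ha ha1 hb) (hAV hb)
    have hKcop : ∀ a ∈ A, a ≠ 1 → (Nat.card ↥⁅qcore' 2 (θ a), V⁆).Coprime 2 := fun a ha ha1 =>
      Nat.Coprime.coprime_dvd_left (card_dvd_of_le (hKO a ha ha1)) coprime_qcore'
    have hHθ : ∀ a ∈ A, a ≠ 1 → H ⊓ centralizer {a} ≤ θ a := fun a ha ha1 =>
      (inf_le_inf_right _ hH.1).trans (hMV.2.2.2 a ha ha1)
    have hHcop : ∀ a : G, (Nat.card ↥(H ⊓ centralizer ({a} : Set G))).Coprime 2 := by
      intro a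
      refine Nat.Coprime.symm ((Nat.prime_two.coprime_iff_not_dvd).mpr fun hd => ?_)
      exact hH.2.1 2 Nat.prime_two (hd.trans (card_dvd_of_le inf_le_left)) rfl
    have hmov : ∀ a ∈ A, a ≠ 1 → ∀ b ∈ A, b ≠ 1 →
        ⁅qcore' 2 (θ a) ⊓ centralizer {b}, V⁆ ≤ ⁅qcore' 2 (θ b), V⁆ := by
      intro a ha ha1 b hb hb1
      set O := qcore' 2 (θ a) ⊓ centralizer ({b} : Set G)
      have hOb : O ≤ θ b := (inf_le_inf_right _ qcore'_le).trans (S.functor.1.2.2.2 a ha ha1 b hb hb1)
      have hOq : (Nat.card O).Coprime 2 :=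
        Nat.Coprime.coprime_dvd_left (card_dvd_of_le inf_le_left) coprime_qcore'
      have hVn : V ≤ normalizer (O : Set G) := le_normalizer_inf (hVO a ha ha1) (hC hb)
      rw [← commutator_commutator_eq hVn (coprime_of_isPGroup hVq hOq)
        (Or.inr (isSolvable_of_le hOb (S.functor.2 b hb hb1)))]
      exact commutator_mono (hV1' b hb hb1 O hOb hOq hVn) le_rfl
    obtain ⟨W0, hW0, hW0le⟩ := S.sub ψ₂
      (fun a ha ha1 => sup_le ((hKO a ha ha1).trans qcore'_le) (hHθ a ha ha1))
      (fun a ha ha1 => le_normalizer_sup (hKA a ha ha1) (le_normalizer_inf hAH (hCA ha)))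
      (by
        rintro a ha ha1 b hb hb1 x ⟨hx, hxb⟩
        have hfam := theta_mem_family S.functor ha ha1
        obtain ⟨k, hk, y, hy, rfl⟩ := (mem_sup_of_le_normalizer
          ((hHθ a ha ha1).trans (hKn a ha ha1))).mp hx
        obtain ⟨k', hk', y', hy', e⟩ := fixed_factorisation (A := zpowers b) (K := θ a)
          (coprime_zpowers_of_mem S.toSetting hfam hb) (Or.inr hfam.1) ((hKO a ha ha1).trans qcore'_le)
          (zpowers_le.mpr (hKA a ha ha1 hb)) (zpowers_le.mpr (le_normalizer_inf hAH (hCA ha) hb)) hk hy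
          (by rw [centralizer_zpowers]; exact hxb)
        rw [e]
        rw [centralizer_zpowers] at hk' hy'
        refine mul_mem ?_ (mem_sup_right ⟨hy'.1.1, hy'.2⟩)
        set Kb := ⁅qcore' 2 (θ a), V⁆ ⊓ centralizer ({b} : Set G)
        have hVn : V ≤ normalizer (Kb : Set G) :=
          le_normalizer_inf (le_normalizer_commutator_right V _) (hC hb)
        have hKbfam : Kb ∈ 𝓕 := mem_family_of_le hfam (inf_le_left.trans ((hKO a ha ha1).trans qcore'_le))
          (le_normalizer_inf (hKA a ha ha1) (hCA hb))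
        have hk2 : k' ∈ ⁅Kb, V⁆ ⊔ (Kb ⊓ centralizer (V : Set G)) := by
          rw [commutator_sup_centralizer hVn (coprime_of_isPGroup hVq
            (Nat.Coprime.coprime_dvd_left (card_dvd_of_le inf_le_left) (hKcop a ha ha1)))
            (Or.inr hKbfam.1)]
          exact hk'
        refine (show ⁅Kb, V⁆ ⊔ (Kb ⊓ centralizer (V : Set G)) ≤ ψ₂ b from sup_le ?_ ?_) hk2
        · exact le_trans ((commutator_mono (inf_le_inf_right _ (hKO a ha ha1)) le_rfl).trans
            (hmov a ha ha1 b hb hb1)) le_sup_left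
        refine le_trans (le_inf ?_ (inf_le_left.trans inf_le_right)) le_sup_right
        have hXfam : Kb ⊓ centralizer (V : Set G) ∈ 𝓕 := mem_family_inf S.toSetting hKbfam hAC
        refine le_hall_of_invariant S.toSetting hMV hH hAH
          (le_inf (hWvmax _ hXfam (inf_le_right.trans fun g hg =>
            Cfsg.Lib.Sft.mem_normalizer_of_conj fun v hv => by
              rw [← mem_centralizer_iff.mp hg v hv, mul_inv_cancel_right]; exact hv)) inf_le_right)
          (le_normalizer_of_mem_family hXfam) (fun r hr hd => fun er => ?_) fun c hc => ?_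
        · have h3 := hd.trans ((card_dvd_of_le inf_le_left).trans (card_dvd_of_le inf_le_left))
          exact hr.ne_one (Nat.eq_one_of_dvd_coprimes (hKcop a ha ha1) h3 (er ▸ dvd_rfl))
        · have hcT := inf_centralizer_le_inf hMV hc
          refine le_normalizer_inf (H := zpowers c) (le_normalizer_inf
            (zpowers_le.mpr (hKn a ha ha1 (inf_le_theta S.toSetting ha ha1 hcT)))
            (zpowers_le.mpr (le_normalizer (mem_centralizer_singleton_iff.mpr
              (mem_centralizer_iff.mp hc.2 b hb).symm))))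
            (zpowers_le.mpr (le_normalizer hc.1.2)) (mem_zpowers c))
      ⟨a₀, ha₀, ha₀1, fun e => by
        have hcard : (Nat.card (ψ₂ a₀)).Coprime 2 := by
          refine Nat.Coprime.coprime_dvd_left ?_ ((hKcop a₀ ha₀ ha₀1).mul_left (hHcop a₀))
          exact Dvd.intro _ (card_sup_mul_card_inf ((hHθ a₀ ha₀ ha₀1).trans (hKn a₀ ha₀ ha₀1)))
        rw [e] at hcard
        exact Nat.prime_two.ne_one (Nat.eq_one_of_dvd_coprimes hcard
          (dvd_of_ne_bot hVq hV1 (hVθ ha₀ ha₀1)) dvd_rfl)⟩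
    set Wm := ⨆ a : {a : G // a ∈ A ∧ a ≠ 1}, ⁅qcore' 2 (θ a.1), V⁆
    have hWm : Wm ∈ 𝓕 := mem_family_of_le hW0
      (iSup_le fun a => le_sup_left.trans (hW0le a.1 a.2.1 a.2.2))
      fun b hb => mem_normalizer_iSup _ fun a => hKA a.1 a.2.1 a.2.2 hb
    have hWm1 : Wm = ⊥ := by
      refine eq_bot_of_lines_normalize S hWm fun B hB g hg => ?_
      refine Cfsg.Lib.Sft.mem_normalizer_of_conj fun x hx => ?_
      have hle : conjMap g Wm ≤ Wm := by
        show conjMap g (⨆ a : {a : G // a ∈ A ∧ a ≠ 1}, ⁅qcore' 2 (θ a.1), V⁆) ≤ Wm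
        rw [conjMap, Subgroup.map_iSup]
        refine iSup_le fun a => ?_
        obtain ⟨a, ha, ha1⟩ := a
        have hfam := theta_mem_family S.functor ha ha1
        set K := ⁅qcore' 2 (θ a), V⁆
        have hKfam : K ∈ 𝓕 :=
          mem_family_of_le hfam ((hKO a ha ha1).trans qcore'_le) (hKA a ha ha1)
        have hgen := le_iSup_commutator (A := A) (V := V)
          (fun D : {D : Subgroup G // IsLine p A D} => D.1) hVA
          (fun N hN hAN => le_iSup_lines S.toSetting (fun hd => hKfam.2.1 (hd.trans (card_dvd_of_le hN))) hAN)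
          (fun D => D.2.1) hKfam.1 (hKA a ha ha1) (le_normalizer_commutator_right V _)
          (coprime_of_isPGroup hVq (hKcop a ha ha1))
          (commutator_commutator_eq (hVO a ha ha1) (coprime_of_isPGroup hVq coprime_qcore')
            (Or.inr (isSolvable_of_le qcore'_le hfam.1)))
        refine (map_mono hgen).trans ?_
        rw [Subgroup.map_iSup]
        refine iSup_le fun D => ?_
        obtain ⟨d, hdD, hdB, hd, hd1⟩ := exists_meet S.toSetting D.2 hB
        have hsub : K ⊓ centralizer ((D : Subgroup G) : Set G) ≤ qcore' 2 (θ a) ⊓ centralizer {d} :=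
          inf_le_inf (hKO a ha ha1) (centralizer_le (Set.singleton_subset_iff.mpr hdD))
        refine (map_mono ((commutator_mono hsub le_rfl).trans (hmov a ha ha1 d hd hd1))).trans ?_
        refine (conjMap_eq_self (g := g) (hKn d hd hd1 (mem_inf_iff.mp hg d hdB hd1))).le.trans ?_
        exact le_iSup (fun a : {a : G // a ∈ A ∧ a ≠ 1} => ⁅qcore' 2 (θ a.1), V⁆) ⟨d, hd, hd1⟩
      exact hle (mem_map_of_mem _ hx)
    obtain ⟨z, hz, hz1⟩ := exists_ne_one hV1
    refine hz1 (hgood z fun a ha ha1 => hcore z hz a ha ha1 fun o ho => ?_)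
    have h1 : ⁅qcore' 2 (θ a), V⁆ = ⊥ := eq_bot_iff.mpr
      ((le_iSup (fun a : {a : G // a ∈ A ∧ a ≠ 1} => ⁅qcore' 2 (θ a.1), V⁆) ⟨a, ha, ha1⟩).trans hWm1.le)
    exact ((mem_centralizer_iff.mp (commutator_eq_bot_iff_le_centralizer.mp h1 ho) z hz)).symm
  -- a member containing every `ψ(a)`
  push Not at hEq
  obtain ⟨W, hW, hWle⟩ := S.sub ψ hψθ
    (fun a ha ha1 => le_normalizer_sup (hO' a ha ha1)
      (le_normalizer_inf (le_normalizer_of_mem_family (theta_mem_family S.functor ha ha1)) hAC))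
    (by
      rintro a ha ha1 b hb hb1 x ⟨hx, hxb⟩
      have hfam := theta_mem_family S.functor ha ha1
      obtain ⟨k, hk, y, hy, rfl⟩ := (mem_sup_of_le_normalizer
        ((inf_le_left : θ a ⊓ centralizer (V : Set G) ≤ θ a).trans
          (le_normalizer.trans le_normalizer_qcore'))).mp hx
      obtain ⟨k', hk', y', hy', e⟩ := fixed_factorisation (A := zpowers b) (K := θ a)
        (coprime_zpowers_of_mem S.toSetting hfam hb) (Or.inr hfam.1) qcore'_le
        (zpowers_le.mpr (hO' a ha ha1 hb))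
        (zpowers_le.mpr (le_normalizer_inf (le_normalizer_of_mem_family hfam) hAC hb)) hk hy
        (by rw [centralizer_zpowers]; exact hxb)
      rw [e]
      rw [centralizer_zpowers] at hk' hy'
      refine mul_mem ?_ (mem_sup_right ⟨S.functor.1.2.2.2 a ha ha1 b hb hb1 ⟨hy'.1.1, hy'.2⟩, hy'.1.2⟩)
      exact hdec b hb hb1 (qcore' 2 (θ a) ⊓ centralizer {b})
        ((inf_le_inf_right _ qcore'_le).trans (S.functor.1.2.2.2 a ha ha1 b hb hb1))
        (Nat.Coprime.coprime_dvd_left (card_dvd_of_le inf_le_left) coprime_qcore')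
        (le_normalizer_inf ((hVθ ha ha1).trans (le_normalizer.trans le_normalizer_qcore')) (hC hb)) hk')
    hEq
  have hQW : Q ≤ W := by
    refine le_of_lines S.toSetting hQ.2.1 (le_normalizer_of_mem_family hQ) fun B hB => ?_
    obtain ⟨e, heB, he, he1⟩ := exists_ne_one_of_line hB
    refine le_trans (le_inf (inf_centralizer_le hQ he he1 heB) (inf_le_left.trans ?_))
      (le_sup_right.trans (hWle e he he1))
    exact le_centralizer_iff.mp hVc
  have hUQ : qcore 2 W ≤ Q := by
    have hn : Q ≤ normalizer (qcore 2 W : Set G) := hQW.trans (le_normalizer.trans le_normalizer_qcore)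
    exact le_sup_left.trans (hQm _ (sup_mem_family S.elem (qcore_mem_family hW 2) hQ hn)
      (isPGroup_qcore.to_sup_of_normal_left' hQq hn) le_sup_right).le
  have hU1 : qcore 2 W = ⊥ := by
    by_contra hU
    haveI := hQq.isNilpotent
    haveI : ((qcore 2 W).subgroupOf Q).Normal :=
      normal_subgroupOf_of_le_normalizer (hQW.trans (le_normalizer.trans le_normalizer_qcore))
    have hne : (qcore 2 W).subgroupOf Q ≠ ⊥ := fun e => hU (by
      rw [← map_subgroupOf_eq_of_le hUQ, e, Subgroup.map_bot])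
    obtain ⟨z, ⟨hzU, hzc⟩, hz1⟩ := exists_ne_one (inf_center_ne_bot ((qcore 2 W).subgroupOf Q) hne)
    have hzV : (z : G) ∈ V := hVdef ▸ ⟨z.2, mem_centralizer_iff.mpr fun x hx =>
      congrArg Subtype.val (mem_center_iff.mp hzc ⟨x, hx⟩)⟩
    refine hz1 (Subtype.ext (hgood z fun a ha ha1 => hcore _ hzV a ha ha1 fun o ho => ?_))
    have hoW : o ∈ W := le_sup_left.trans (hWle a ha ha1) ho
    refine commutatorElement_eq_one_iff_mul_comm.mp
      (eq_one_of_coprime_of_isPGroup (Y := qcore 2 W) isPGroup_qcore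
        (coprime_qcore' (K := θ a) (q := 2)) ?_ ?_)
    · rw [commutatorElement_def]
      exact mul_mem ((mem_normalizer_iff.mp (le_normalizer_qcore (le_normalizer hoW)) _).mp hzU)
        (inv_mem (show (z : G) ∈ qcore 2 W from hzU))
    · rw [commutatorElement_def,
        show o * (z : G) * o⁻¹ * (z : G)⁻¹ = o * ((z : G) * o⁻¹ * (z : G)⁻¹) by group]
      exact mul_mem ho ((mem_normalizer_iff.mp (le_normalizer_qcore'
        (le_normalizer (hVθ ha ha1 hzV))) _).mp (inv_mem ho))
  have hcores : ∀ r : ℕ, r.Prime → r ≠ 2 → qcore r W = good p r A θ := by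
    intro r hr hr2
    haveI := Fact.mk hr
    have hS : qcore r W ≤ good p r A θ := by
      have hfam := qcore_mem_family hW r
      refine le_of_lines S.toSetting hfam.2.1 (le_normalizer_of_mem_family hfam) fun D hD y hy => ?_
      refine mem_good_of_line S.toSetting hD fun d hdD hd hd1 => ?_
      set X := qcore r W ⊓ centralizer ({d} : Set G)
      have hyX : y ∈ X := ⟨hy.1,
        mem_centralizer_singleton_iff.mpr (mem_centralizer_iff.mp hy.2 d hdD).symm⟩
      have hXθ : X ≤ θ d := hfam.2.2.2 d hd hd1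
      have hXr : IsPGroup r X := isPGroup_qcore.to_le inf_le_left
      have hX2 : (Nat.card X).Coprime 2 :=
        coprime_of_isPGroup (q := r) hXr ((Nat.coprime_primes Nat.prime_two hr).mpr (Ne.symm hr2))
      have hXO : X ≤ qcore' 2 (θ d) := le_qcore'_of_sylow (S.functor.2 d hd hd1) (hsyl d hd hd1) hXθ hX2
        (le_normalizer_inf (inf_le_left.trans (hQW.trans (le_normalizer.trans le_normalizer_qcore)))
          (inf_le_right.trans le_normalizer))
      have h2 : X ≤ qcore r (qcore' 2 (θ d)) := le_qcore hXO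
        (le_normalizer_inf ((le_sup_left.trans (hWle d hd hd1)).trans (le_normalizer.trans le_normalizer_qcore))
          ((qcore'_le.trans (S.functor.1.1 d hd hd1)).trans le_normalizer)) hXr
      exact le_qcore (qcore_le.trans qcore'_le)
        ((le_normalizer.trans le_normalizer_qcore').trans le_normalizer_qcore) isPGroup_qcore (h2 hyX)
    have hPW : good p r A θ ≤ W := by
      have hfam := good_mem_family (q := r) S.toSetting
      refine le_of_lines S.toSetting hfam.2.1 (le_normalizer_of_mem_family hfam) fun B hB y hy => ?_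
      obtain ⟨e, heB, he, he1⟩ := exists_ne_one_of_line hB
      refine hWle e he he1 (hdec e he he1 (good p r A θ ⊓ centralizer {e}) (hfam.2.2.2 e he he1) ?_ ?_
        ⟨hy.1, mem_centralizer_singleton_iff.mpr (mem_centralizer_iff.mp hy.2 e heB).symm⟩)
      · exact coprime_of_isPGroup (q := r) ((isPGroup_good S.toSetting).to_le inf_le_left)
          ((Nat.coprime_primes Nat.prime_two hr).mpr (Ne.symm hr2))
      · exact le_normalizer_inf (((le_inf le_rfl hVA).trans (inf_centralizer_le_inf hVfam)).trans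
          (T_le_normalizer_good S.toSetting)) (hC he)
    exact le_antisymm hS ((le_inf le_rfl hPW).trans (good_inf_le_qcore S.toSetting hW))
  have hW1 : W ≠ ⊥ := fun e => hV1 (eq_bot_iff.mpr (e ▸ hVQ.trans hQW))
  obtain ⟨r, hr, hrW⟩ := exists_qcore_ne_bot hW.1 hW1
  have hr2 : r ≠ 2 := fun e => hrW (e ▸ hU1)
  haveI := Fact.mk hr
  rw [hcores r hr hr2] at hrW
  have hWn : W ≤ normalizer (good p r A θ : Set G) := hcores r hr hr2 ▸ le_normalizer.trans le_normalizer_qcore
  refine hrW (eq_bot_of_lines_normalize S (good_mem_family S.toSetting) fun B hB => ?_)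
  obtain ⟨e₁, he₁B, he₁, he₁1⟩ := exists_ne_one_of_line hB
  set K := Cfsg.signalizerInf B θ
  have hK : K ∈ 𝓕 := inf_mem_family S.functor hB.1 (ne_bot_of_line hB)
  haveI := hK.1
  have hKe : K ≤ θ e₁ := fun x hx => mem_inf_iff.mp hx e₁ he₁B he₁1
  have hVK : V ≤ K := fun z hz => mem_inf_iff.mpr fun e he he1 => hVθ (hB.1 he) he1 hz
  obtain ⟨SB, hSB⟩ := (sylow_of_max S.elem S.card.ge S.functor hqe hQ hQq hQm).2 B hB.1 (ne_bot_of_line hB)
  set O := Cfsg.pPrimeCore 2 K
  set M := Cfsg.pPrimePCore 2 K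
  haveI hMc : M.Characteristic := Characteristic.comap_quotient_mk inferInstance
  set P₀ := Q ⊓ centralizer (B : Set G) ⊓ M.map K.subtype with hP₀
  have hP₀K : P₀ ≤ K := inf_le_right.trans (map_subtype_le _)
  have hSe : ∀ x : K, x ∈ (SB : Subgroup K) ↔ (x : G) ∈ Q ⊓ centralizer (B : Set G) := fun x => by
    rw [← hSB]; exact (mem_map_iff_mem K.subtype_injective).symm
  set P₀' := P₀.subgroupOf K
  have hP₀M : P₀' ≤ M := fun x hx => (mem_map_iff_mem K.subtype_injective).mp hx.2
  have hVP₀ : V ≤ P₀ := by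
    refine le_inf (le_inf hVQ fun z hz => centralizer_le (SetLike.coe_subset_coe.mpr hB.1) (hVA hz))
      fun z hz => ⟨⟨z, hVK hz⟩, ?_, rfl⟩
    exact mk_mem_pCore_of_centralizes_sylow SB fun x hx =>
      Subtype.ext (mem_centralizer_iff.mp (hVc hz) x ((hSe x).mp hx).1)
  have hMle : M ≤ O ⊔ P₀' := by
    intro m hm
    obtain ⟨s, hs, es⟩ := pCore_le_image_sylow SB O (show QuotientGroup.mk' O m ∈ Cfsg.pCore 2 _ from hm)
    have hsM : s ∈ M := by
      show QuotientGroup.mk' O s ∈ Cfsg.pCore 2 _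
      rw [es]; exact hm
    have hmo : s⁻¹ * m ∈ O := (QuotientGroup.eq).mp es
    rw [← mul_inv_cancel_left s m, sup_comm]
    exact mul_mem_sup ⟨(hSe s).mp hs, mem_map_of_mem _ hsM⟩ hmo
  have hOM : O ≤ M := fun x hx => by
    show QuotientGroup.mk' O x ∈ Cfsg.pCore 2 _
    rw [show QuotientGroup.mk' O x = 1 from (QuotientGroup.eq_one_iff x).mpr hx]
    exact one_mem _
  have hP₀q : IsPGroup 2 P₀ := hQq.to_le (inf_le_left.trans inf_le_left)
  have hfrat : K ≤ qcore' 2 K ⊔ (K ⊓ normalizer (P₀ : Set G)) := by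
    have hidx : ¬ 2 ∣ (P₀'.subgroupOf M).index := by
      intro hd
      have hP₀'q : IsPGroup 2 P₀' := hP₀q.comap_of_injective K.subtype K.subtype_injective
      have hcop : (Nat.card O).Coprime (Nat.card P₀') :=
        (coprime_of_isPGroup hP₀'q (Cfsg.Lib.Components.coprime_card_pPrimeCore 2)).symm
      have hc := card_sup_coprime (le_normalizer_of_normal : P₀' ≤ normalizer (O : Set K)) hcop
      rw [le_antisymm (sup_le hOM hP₀M) hMle] at hc
      have h2 := relIndex_mul_relIndex ⊥ P₀' M bot_le hP₀M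
      rw [relIndex_bot_left, relIndex_bot_left, hc, mul_comm (Nat.card O)] at h2
      have h3 : P₀'.relIndex M = Nat.card O := Nat.eq_of_mul_eq_mul_left Nat.card_pos h2
      have hd' : 2 ∣ P₀'.relIndex M := hd
      rw [h3] at hd'
      exact Nat.prime_two.ne_one (Nat.eq_one_of_dvd_coprimes
        (Cfsg.Lib.Components.coprime_card_pPrimeCore 2) hd' dvd_rfl)
    let PM : Sylow 2 M := ((hP₀q.comap_of_injective K.subtype K.subtype_injective).comap_of_injective
      M.subtype M.subtype_injective).toSylow hidx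
    have h1 := Sylow.normalizer_sup_eq_top PM
    rw [show (PM : Subgroup M).map M.subtype = P₀' from map_subgroupOf_eq_of_le hP₀M] at h1
    have h2 : (⊤ : Subgroup K) ≤ O ⊔ normalizer (P₀' : Set K) := by
      rw [← h1]
      refine sup_le le_sup_right (hMle.trans (sup_le_sup_left le_normalizer _))
    have h3 := map_mono (f := K.subtype) h2
    rw [← MonoidHom.range_eq_map, range_subtype, Subgroup.map_sup] at h3
    refine h3.trans (sup_le_sup_left ?_ _)
    rintro _ ⟨k, hk, rfl⟩
    refine ⟨k.2, ?_⟩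
    rw [← subgroupOf_normalizer_eq hP₀K] at hk
    exact hk
  refine hfrat.trans (sup_le ?_ ?_)
  · refine le_trans (le_trans ?_ (hWle e₁ he₁ he₁1)) hWn
    exact hdec e₁ he₁ he₁1 (qcore' 2 K) (qcore'_le.trans hKe) coprime_qcore'
      (hVK.trans (le_normalizer.trans le_normalizer_qcore'))
  set N := K ⊓ normalizer (P₀ : Set G)
  have hAP₀ : A ≤ normalizer (P₀ : Set G) := le_normalizer_inf
    (le_normalizer_inf (le_normalizer_of_mem_family hQ) (A_le_normalizer_centralizer S.elem hB.1))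
    ((le_normalizer_of_mem_family hK).trans (le_normalizer_map_char K M))
  have hNfam : N ∈ 𝓕 := mem_family_inf S.toSetting hK (hAP₀.trans le_normalizer)
  rw [← commutator_sup_centralizer (le_normalizer_of_mem_family hNfam) (coprime_card S.elem hNfam.2.1)
    (Or.inr hNfam.1)]
  refine sup_le ?_ ((inf_centralizer_le_inf hNfam).trans (T_le_normalizer_good S.toSetting))
  set Z₀ := P₀ ⊓ centralizer (P₀ : Set G)
  have hAZ₀ : A ≤ normalizer (Z₀ : Set G) := le_normalizer_inf hAP₀ (hAP₀.trans le_normalizer_centralizer)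
  by_cases hZA : ⁅Z₀, A⁆ = ⊥
  · have hNn : N ≤ normalizer (Z₀ : Set G) :=
      le_normalizer_inf inf_le_right (inf_le_right.trans le_normalizer_centralizer)
    have hbot : ⁅⁅N, A⁆, Z₀⁆ = ⊥ := by
      refine commutator_commutator_eq_bot_of_rotate ?_ (eq_bot_iff.mpr ?_)
      · rw [commutator_comm A, hZA, commutator_bot_left]
      · exact (commutator_mono (le_normalizer_iff_commutator_le_left.mp hNn) le_rfl).trans hZA.le
    refine le_trans (le_trans (le_inf ?_ ?_) (le_sup_right.trans (hWle e₁ he₁ he₁1))) hWn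
    · exact (commutator_le_of_le_normalizer (le_normalizer_of_mem_family hNfam)).trans (inf_le_left.trans hKe)
    · refine (commutator_eq_bot_iff_le_centralizer.mp hbot).trans
        (centralizer_le (SetLike.coe_subset_coe.mpr (le_inf hVP₀ fun z hz => ?_)))
      exact centralizer_le (SetLike.coe_subset_coe.mpr (inf_le_left.trans inf_le_left)) (hVc hz)
  exfalso
  set Y := ⁅Z₀, A⁆
  have hYZ : Y ≤ Z₀ := commutator_le_of_le_normalizer hAZ₀
  have hYq : IsPGroup 2 Y := hP₀q.to_le (hYZ.trans inf_le_left)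
  have hZB : Z₀ ≤ centralizer (B : Set G) := inf_le_left.trans (inf_le_left.trans inf_le_right)
  have hBA : ¬ A ≤ B := fun hle => hZA (commutator_eq_bot_iff_le_centralizer.mpr
    (hZB.trans (centralizer_le (SetLike.coe_subset_coe.mpr hle))))
  haveI : IsMulCommutative Z₀ := ⟨⟨fun a b => Subtype.ext (mem_centralizer_iff.mp b.2.2 a a.2.1)⟩⟩
  have hcopZ : (Nat.card A).Coprime (Nat.card Z₀) :=
    coprime_card S.elem fun hd => hQ.2.1 (hd.trans (card_dvd_of_le
      ((inf_le_left : Z₀ ≤ P₀).trans (inf_le_left.trans inf_le_left))))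
  have hYfix : ∀ e ∈ A, e ∉ B → Y ⊓ centralizer {e} = ⊥ := by
    intro e he heB
    rw [eq_bot_iff, ← (abelian_coprime_decomp hAZ₀ hcopZ).1]
    rintro y ⟨hy, hye⟩
    refine ⟨⟨hYZ hy, mem_centralizer_iff.mpr fun a ha => ?_⟩, hy⟩
    have hAle : A ≤ B ⊔ zpowers e := by
      have hsub : B ⊔ zpowers e ≤ A := sup_le hB.1 (zpowers_le.mpr he)
      have hlt : Nat.card B < Nat.card ↥(B ⊔ zpowers e) := by
        refine Nat.lt_of_not_le fun h => heB ?_
        exact (eq_of_le_of_card_ge le_sup_left h).symm ▸ mem_sup_right (mem_zpowers e)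
      obtain ⟨i, hi, ei⟩ := (Nat.dvd_prime_pow hp.out).mp (S.card ▸ card_dvd_of_le hsub)
      have h2 : 2 < i := (Nat.pow_lt_pow_iff_right hp.out.one_lt).mp (ei ▸ hB.2.trans_lt hlt)
      refine (eq_of_le_of_card_ge hsub ?_).ge
      rw [S.card, ei]
      exact Nat.pow_le_pow_right hp.out.pos h2
    have hall : B ⊔ zpowers e ≤ centralizer ({y} : Set G) := sup_le
      (fun b hb => mem_centralizer_singleton_iff.mpr (mem_centralizer_iff.mp (hZB (hYZ hy)) b hb))
      (zpowers_le.mpr (mem_centralizer_singleton_iff.mpr (commute_of_mem_centralizer hye).symm))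
    exact mem_centralizer_singleton_iff.mp (hall (hAle ha))
  have hYQ : Y ≤ Q := hYZ.trans (inf_le_left.trans (inf_le_left.trans inf_le_left))
  have hYA : A ≤ normalizer (Y : Set G) := le_normalizer_commutator_right A Z₀
  obtain ⟨y, hy, hy1⟩ := exists_ne_one (show Y ≠ ⊥ from hZA)
  have hcent : ∀ s : ℕ, s.Prime → ∀ x ∈ qcore s W, x * y = y * x := by
    intro s hs x hx
    by_cases hs2 : s = 2
    · rw [hs2, hU1, mem_bot] at hx
      rw [hx, one_mul, mul_one]
    haveI := Fact.mk hs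
    rw [hcores s hs hs2] at hx
    by_cases hfpf : ∃ e ∈ A, e ∉ B ∧ good p s A θ ⊓ centralizer {e} = ⊥
    · obtain ⟨e, he, heB, hbot⟩ := hfpf
      have hPfam := good_mem_family (q := s) S.toSetting
      have hP2' : (Nat.card (good p s A θ)).Coprime 2 := coprime_of_isPGroup (q := s) (isPGroup_good S.toSetting)
        ((Nat.coprime_primes Nat.prime_two hs).mpr (Ne.symm hs2))
      have hp2 : 2 ≠ p := fun e' => hQ.2.1 (e' ▸ dvd_of_ne_bot hVq hV1 hVQ)
      have h1 := fpf_le_centralizer (q := 2) (pow_eq_one S.toSetting he) hYq hp2 (hYA he)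
        (le_normalizer_of_mem_family hPfam he)
        (hYQ.trans (hQW.trans (hcores s hs hs2 ▸ le_normalizer.trans le_normalizer_qcore)))
        hPfam.1 (coprime_p hPfam) hP2' (hYfix e he heB) (hbot.le.trans bot_le)
      exact (mem_centralizer_iff.mp (h1 hx) y hy).symm
    · push Not at hfpf
      have hne : good p s A θ ≠ ⊥ := by
        obtain ⟨e, he, heB⟩ := SetLike.not_le_iff_exists.mp hBA
        exact fun h0 => hfpf e he heB (by rw [h0, bot_inf_eq])
      exact (false_of_fine_off_line S hs2 hne hB hBA fun e he heB =>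
        fine_of_centralizer S.toSetting he (fun e1 => heB (e1 ▸ one_mem B)) (hfpf e he heB)).elim
  haveI := hW.1
  have hyW : y ∈ W := hQW (hYQ hy)
  have hyU : y ∈ qcore 2 W := by
    rw [mem_qcore_iff hyW]
    refine mem_pCore_of_centralizes_fitting ?_ fun s hs x hx => Subtype.ext (hcent s hs _ (mem_map_of_mem _ hx))
    exact (hYq.comap_of_injective W.subtype W.subtype_injective).to_le
      (zpowers_le.mpr (mem_subgroupOf.mpr hy))
  rw [hU1, mem_bot] at hyU
  exact hy1 hyU

end Cfsg.Lib.Sft
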