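import Cfsg.Agent.Components.Signalizer.Sft.Apps
import Cfsg.Agent.Components.Balance
import Cfsg.Agent.S1293
import Cfsg.Prelude.Def_CaseTheorems

/-!
Equivariant solvable signalizer functors on a group with connected rank-two graph are trivial.
-/

set_option linter.style.haveILetI false
set_option linter.unusedSectionVars false

namespace Cfsg.Lib.Sft

open Subgroup Cfsg.Lib.Coprime Cfsg.Lib.Signalizer Cfsg.Lib.Components

universe u

variable {G : Type u} [Group G] [Finite G] {p : ℕ} [hp : Fact p.Prime]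

/-- `a` has order `p` and its centraliser has `p`-rank at least three -/
def RankThree (p : ℕ) (a : G) : Prop :=
  orderOf a = p ∧ ¬ Cfsg.PRankLE p 2 ↥(centralizer ({a} : Set G))

theorem exists_elementary_of_not_pRankLE {C : Subgroup G} (h : ¬ Cfsg.PRankLE p 2 C) :
    ∃ B : Subgroup G, B ≤ C ∧ Cfsg.IsElementaryAbelian p B ∧ p ^ 3 ≤ Nat.card B := by
  unfold Cfsg.PRankLE at h
  push Not at h
  obtain ⟨B, hB, hBp, hcard⟩ := h
  have hBg : IsPGroup p B := fun b => ⟨1, Subtype.ext (by rw [pow_one]; exact hBp b b.2)⟩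
  obtain ⟨i, hi⟩ := IsPGroup.iff_card.mp hBg
  refine ⟨B.map C.subtype, map_subtype_le _, ⟨⟨⟨?_⟩⟩, ?_⟩, ?_⟩
  · rintro ⟨_, x, hx, rfl⟩ ⟨_, y, hy, rfl⟩
    refine Subtype.ext ?_
    show C.subtype x * C.subtype y = C.subtype y * C.subtype x
    rw [← map_mul, ← map_mul]
    exact congrArg C.subtype (congrArg Subtype.val (hB.is_comm.comm ⟨x, hx⟩ ⟨y, hy⟩))
  · rintro _ ⟨x, hx, rfl⟩
    rw [← map_pow, hBp x hx, map_one]
  · rw [card_map_of_injective C.subtype_injective, hi]
    rw [hi] at hcard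
    exact Nat.pow_le_pow_right hp.out.pos ((Nat.pow_lt_pow_iff_right hp.out.one_lt).mp hcard)

theorem not_pRankLE_of_le {A C : Subgroup G} (hA : Cfsg.IsElementaryAbelian p A) (hA3 : p ^ 3 ≤ Nat.card A)
    (hAC : A ≤ C) : ¬ Cfsg.PRankLE p 2 C := fun h => by
  have h1 : Nat.card A ≤ p ^ 2 := by
    rw [← Nat.card_congr (subgroupOfEquivOfLe hAC).toEquiv]
    refine h _ ⟨⟨fun x y => Subtype.ext (Subtype.ext (Cfsg.Lib.Signalizer.comm hA x.2 y.2))⟩⟩ fun x hx =>
      Subtype.ext (hA.2 (x : G) hx)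
  exact absurd (hA3.trans h1) (not_le.mpr (Nat.pow_lt_pow_right hp.out.one_lt (by norm_num)))

theorem rankThree_of_mem {A : Subgroup G} (hA : Cfsg.IsElementaryAbelian p A) (hA3 : p ^ 3 ≤ Nat.card A)
    {a : G} (ha : a ∈ A) (ha1 : a ≠ 1) : RankThree p a :=
  ⟨orderOf_eq_prime (hA.2 a ha) ha1, not_pRankLE_of_le hA hA3 fun _ hb =>
    mem_centralizer_singleton_iff.mpr (Cfsg.Lib.Signalizer.comm hA hb ha)⟩

theorem elementary_sup {E F : Subgroup G} (hE : Cfsg.IsElementaryAbelian p E)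
    (hF : Cfsg.IsElementaryAbelian p F) (hc : ∀ a ∈ E, ∀ b ∈ F, a * b = b * a) :
    Cfsg.IsElementaryAbelian p (E ⊔ F) := by
  have hn : F ≤ normalizer (E : Set G) := fun f hf => Cfsg.Lib.Sft.mem_normalizer_of_conj fun x hx => by
    rw [← hc x hx f hf, mul_inv_cancel_right]; exact hx
  refine ⟨⟨⟨?_⟩⟩, ?_⟩
  · rintro ⟨x, hx⟩ ⟨y, hy⟩
    obtain ⟨e, he, f, hf, rfl⟩ := (mem_sup_of_le_normalizer hn).mp hx
    obtain ⟨e', he', f', hf', rfl⟩ := (mem_sup_of_le_normalizer hn).mp hy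
    have c1 : Commute (e * f) e' := Commute.mul_left (Cfsg.Lib.Signalizer.comm hE he he')
      (hc e' he' f hf).symm
    have c2 : Commute (e * f) f' := Commute.mul_left (hc e he f' hf') (Cfsg.Lib.Signalizer.comm hF hf hf')
    exact Subtype.ext (c1.mul_right c2).eq
  · intro x hx
    obtain ⟨e, he, f, hf, rfl⟩ := (mem_sup_of_le_normalizer hn).mp hx
    rw [Commute.mul_pow (hc e he f hf), hE.2 e he, hF.2 f hf, one_mul]

/-- the subgroup generated by the `θ(e)`, `e` a non-identity element of `E` -/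
def closureOf (θ : G → Subgroup G) (E : Subgroup G) : Subgroup G := ⨆ e : {e : G // e ∈ E ∧ e ≠ 1}, θ e.1

theorem closureOf_mono (θ : G → Subgroup G) {E F : Subgroup G} (h : E ≤ F) : closureOf θ E ≤ closureOf θ F :=
  iSup_le fun e => le_iSup (fun e : {e : G // e ∈ F ∧ e ≠ 1} => θ e.1) ⟨e.1, h e.2.1, e.2.2⟩

section

variable {θ : G → Subgroup G}
  (hC : ∀ a : G, RankThree p a →
    θ a ≤ centralizer ({a} : Set G) ∧ ¬ p ∣ Nat.card ↥(θ a) ∧ Group.IsSolvable ↥(θ a))
  (heq : ∀ a g : G, RankThree p a → θ (g * a * g⁻¹) = (θ a).map (MulAut.conj g).toMonoidHom)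
  (hbal : ∀ a b : G, RankThree p a → RankThree p b → a * b = b * a →
    θ a ⊓ centralizer {b} ≤ θ b)

include hC heq hbal

theorem functor_of_equivariant {A : Subgroup G} (hA : Cfsg.IsElementaryAbelian p A)
    (hA3 : p ^ 3 ≤ Nat.card A) : Cfsg.IsSolvableSignalizerFunctor p A θ := by
  refine ⟨⟨fun a ha ha1 => (hC a (rankThree_of_mem hA hA3 ha ha1)).1,
    fun a ha ha1 => (hC a (rankThree_of_mem hA hA3 ha ha1)).2.1, fun a ha ha1 b hb x hx => ?_,
    fun a ha ha1 b hb hb1 => hbal a b (rankThree_of_mem hA hA3 ha ha1) (rankThree_of_mem hA hA3 hb hb1)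
      (Cfsg.Lib.Signalizer.comm hA ha hb)⟩, fun a ha ha1 => (hC a (rankThree_of_mem hA hA3 ha ha1)).2.2⟩
  have h := heq a b (rankThree_of_mem hA hA3 ha ha1)
  rw [show b * a * b⁻¹ = a by rw [Cfsg.Lib.Signalizer.comm hA hb ha, mul_inv_cancel_right]] at h
  rw [h]
  exact ⟨x, hx, rfl⟩

theorem closureOf_eq {A E : Subgroup G} (hA : Cfsg.IsElementaryAbelian p A)
    (hA3 : p ^ 3 ≤ Nat.card A) (hEA : E ≤ A) (hE2 : p ^ 2 ≤ Nat.card E) :
    closureOf θ E = closureOf θ A := by
  refine le_antisymm (closureOf_mono θ hEA) (iSup_le fun a => ?_)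
  obtain ⟨a, ha, ha1⟩ := a
  have hθ := functor_of_equivariant hC heq hbal hA hA3
  have hfam := theta_mem_family hθ ha ha1
  have hE : Cfsg.IsElementaryAbelian p E :=
    ⟨⟨⟨fun x y => Subtype.ext (Cfsg.Lib.Signalizer.comm hA (hEA x.2) (hEA y.2))⟩⟩, fun e he => hA.2 e (hEA he)⟩
  refine (Cfsg.Agent.S1324.result p E (θ a) hE hE2 hfam.2.1
    (hEA.trans (le_normalizer_of_mem_family hfam))).le.trans (iSup_le fun B => ?_)
  obtain ⟨e, heB, he1⟩ := exists_ne_one (B := (B : Subgroup G)) fun h => by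
    have h1 := B.2.2
    rw [h, relIndex_bot_left] at h1
    exact absurd (hE2.trans h1) (not_le.mpr (by
      nth_rewrite 1 [← pow_one p]
      exact Nat.pow_lt_pow_right hp.out.one_lt (by norm_num)))
  exact (inf_centralizer_le hfam (hEA (B.2.1 heB)) he1 heB).trans
    (le_iSup (fun e : {e : G // e ∈ E ∧ e ≠ 1} => θ e.1) ⟨e, B.2.1 heB, he1⟩)

theorem trivial_of_connected (hO : Cfsg.pPrimeCore p G = ⊥) (hconn : Cfsg.IsRankGraphConnected p 2 G)
    {a : G} (ha : RankThree p a) : θ a = ⊥ := by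
  obtain ⟨B, hBC, hB, hB3⟩ := exists_elementary_of_not_pRankLE ha.2
  have ha1 : a ≠ 1 := fun e => hp.out.one_lt.ne' (by rw [← ha.1, e, orderOf_one])
  have haZ : Cfsg.IsElementaryAbelian p (zpowers a) := by
    refine ⟨inferInstance, fun x hx => ?_⟩
    obtain ⟨k, rfl⟩ := mem_zpowers_iff.mp hx
    rw [← zpow_natCast, ← zpow_mul, mul_comm, zpow_mul, zpow_natCast, ← ha.1, pow_orderOf_eq_one, one_zpow]
  set A := zpowers a ⊔ B
  have hA : Cfsg.IsElementaryAbelian p A := elementary_sup haZ hB fun x hx b hb => by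
    obtain ⟨k, rfl⟩ := mem_zpowers_iff.mp hx
    exact (Commute.zpow_left (mem_centralizer_singleton_iff.mp (hBC hb)).symm k).eq
  have hA3 : p ^ 3 ≤ Nat.card A := hB3.trans (Nat.le_of_dvd Nat.card_pos (card_dvd_of_le le_sup_right))
  have hA2 : p ^ 2 ≤ Nat.card A := (Nat.pow_le_pow_right hp.out.pos (by norm_num)).trans hA3
  have hvA : Cfsg.IsRankGraphVertex p 2 A := ⟨hA, hA2, not_pRankLE_of_le hA hA3 fun x hx =>
    mem_centralizer_iff.mpr fun y hy => Cfsg.Lib.Signalizer.comm hA hy hx⟩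
  have hstep : ∀ E F : Subgroup G, Cfsg.IsRankGraphVertex p 2 E → Cfsg.IsRankGraphVertex p 2 F →
      (∀ x ∈ E, ∀ y ∈ F, x * y = y * x) → closureOf θ E = closureOf θ F := by
    intro E F hE hF hc
    by_cases h3 : p ^ 3 ≤ Nat.card ↥(E ⊔ F)
    · exact (closureOf_eq hC heq hbal (elementary_sup hE.1 hF.1 hc) h3 le_sup_left hE.2.1).trans
        (closureOf_eq hC heq hbal (elementary_sup hE.1 hF.1 hc) h3 le_sup_right hF.2.1).symm
    · have hp' : IsPGroup p ↥(E ⊔ F) := fun x => ⟨1, Subtype.ext (by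
        rw [pow_one]; exact (elementary_sup hE.1 hF.1 hc).2 x x.2)⟩
      obtain ⟨i, hi⟩ := IsPGroup.iff_card.mp hp'
      have h2 : Nat.card ↥(E ⊔ F) ≤ p ^ 2 := by
        rw [hi] at h3 ⊢
        refine Nat.pow_le_pow_right hp.out.pos ?_
        by_contra hi3
        exact h3 (Nat.pow_le_pow_right hp.out.pos (by omega))
      rw [eq_of_le_of_card_ge (le_sup_left : E ≤ E ⊔ F) (h2.trans hE.2.1),
        ← eq_of_le_of_card_ge (le_sup_right : F ≤ E ⊔ F) (h2.trans hF.2.1)]
  have hchain : ∀ E, Cfsg.IsRankGraphVertex p 2 E → closureOf θ E = closureOf θ A := by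
    intro E hE
    have h := hconn A E hvA hE
    clear hE
    induction h with
    | refl => rfl
    | @tail F E' _ h ih => rw [← ih]; exact (hstep F E' h.1 h.2.1 h.2.2).symm
  have hnorm : (closureOf θ A).Normal := by
    refine ⟨fun x hx g => ?_⟩
    set g' := (MulAut.conj g).toMonoidHom
    have hA' : Cfsg.IsElementaryAbelian p (A.map g') := by
      refine ⟨⟨⟨?_⟩⟩, ?_⟩
      · rintro ⟨_, x, hx, rfl⟩ ⟨_, y, hy, rfl⟩
        refine Subtype.ext ?_
        show g' x * g' y = g' y * g' x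
        rw [← map_mul, ← map_mul, Cfsg.Lib.Signalizer.comm hA hx hy]
      · rintro _ ⟨x, hx, rfl⟩
        rw [← map_pow, hA.2 x hx, map_one]
    have hcard : Nat.card ↥(A.map g') = Nat.card A := card_conjMap g A
    have hv : Cfsg.IsRankGraphVertex p 2 (A.map g') := ⟨hA', hcard.symm ▸ hA2,
      not_pRankLE_of_le hA' (hcard.symm ▸ hA3) fun x hx =>
        mem_centralizer_iff.mpr fun y hy => Cfsg.Lib.Signalizer.comm hA' hy hx⟩
    have hle : (closureOf θ A).map g' ≤ closureOf θ (A.map g') := by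
      rw [closureOf, Subgroup.map_iSup]
      refine iSup_le fun e => ?_
      obtain ⟨e, he, he1⟩ := e
      rw [← heq e g (rankThree_of_mem hA hA3 he he1)]
      exact le_iSup (fun e : {e : G // e ∈ A.map g' ∧ e ≠ 1} => θ e.1)
        ⟨g * e * g⁻¹, ⟨e, he, rfl⟩, by simpa using he1⟩
    exact (hle.trans (hchain _ hv).le) ⟨x, hx, rfl⟩
  haveI := hnorm
  obtain ⟨W, hW, hle⟩ := exists_member hA hA3 (functor_of_equivariant hC heq hbal hA hA3)
  have hWle : closureOf θ A ≤ W := iSup_le fun e => hle e.1 e.2.1 e.2.2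
  have hbot : closureOf θ A = ⊥ := by
    rw [eq_bot_iff, ← hO]
    exact le_pPrimeCore ((hp.out.coprime_iff_not_dvd.mpr fun hd =>
      hW.2.1 (hd.trans (card_dvd_of_le hWle))).symm)
  rw [eq_bot_iff, ← hbot]
  exact le_iSup (fun e : {e : G // e ∈ A ∧ e ≠ 1} => θ e.1) ⟨a, mem_sup_left (mem_zpowers a), ha1⟩

end

/-- balance between commuting elements when the `p`-layer of a centraliser is trivial -/
theorem core_balance {a b : G} (hb : orderOf b = p) (hab : a * b = b * a)
    (hL : Cfsg.pLayer p ↥(centralizer ({a} : Set G)) = ⊥) :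
    Cfsg.centralizerPPrimeCore p b ⊓ centralizer {a} ≤ Cfsg.centralizerPPrimeCore p a := by
  set C := centralizer ({a} : Set G) with hC
  set X := Cfsg.centralizerPPrimeCore p b ⊓ C
  have hbC : b ∈ C := mem_centralizer_singleton_iff.mpr hab.symm
  set P : Subgroup C := zpowers ⟨b, hbC⟩
  have hPp : IsPGroup p P := by
    refine IsPGroup.of_card (n := 1) ?_
    rw [pow_one, Nat.card_zpowers, orderOf_mk, hb]
  have hP1 : P ≠ ⊥ := fun e => by
    rw [zpowers_eq_bot] at e
    have h1 : b = 1 := congrArg Subtype.val e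
    rw [h1, orderOf_one] at hb
    exact hp.out.one_lt.ne hb
  have key := (Cfsg.Agent.S1293.result p hL P hPp hP1).2
  set N := normalizer (P : Set C)
  have hXN : X.subgroupOf C ≤ N := by
    intro x hx
    refine le_normalizer_of_mem_centralizer x ?_
    exact mem_centralizer_singleton_iff.mp
      (centralizerPPrimeCore_le_centralizer b (mem_subgroupOf.mp hx).1)
  haveI : ((X.subgroupOf C).subgroupOf N).Normal := by
    refine ⟨fun x hx g => ?_⟩
    have hgb : ∀ y ∈ centralizer ({b} : Set G), ((g : C) : G) * y * ((g : C) : G)⁻¹ ∈ centralizer ({b} : Set G) := by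
      intro y hy
      obtain ⟨k, hk⟩ := mem_zpowers_iff.mp ((mem_normalizer_iff''.mp g.2 _).mp (mem_zpowers (⟨b, hbC⟩ : C)))
      have hk' : b ^ k = ((g : C) : G)⁻¹ * b * (g : C) := congrArg Subtype.val hk
      refine mem_centralizer_singleton_iff.mpr ?_
      have h1 : Commute y (((g : C) : G)⁻¹ * b * (g : C)) := hk' ▸ (Commute.zpow_right (mem_centralizer_singleton_iff.mp hy) k)
      calc ((g : C) : G) * y * ((g : C) : G)⁻¹ * b
          = (g : C) * (y * (((g : C) : G)⁻¹ * b * (g : C))) * ((g : C) : G)⁻¹ := by group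
        _ = (g : C) * ((((g : C) : G)⁻¹ * b * (g : C)) * y) * ((g : C) : G)⁻¹ := by rw [h1.eq]
        _ = b * (((g : C) : G) * y * ((g : C) : G)⁻¹) := by group
    have hgC : ((g : C) : G) ∈ normalizer (centralizer ({b} : Set G) : Set G) :=
      Cfsg.Lib.Sft.mem_normalizer_of_conj hgb
    refine ⟨(mem_normalizer_iff.mp (Cfsg.Lib.Sft.le_normalizer_map_char _ (Cfsg.pPrimeCore p _) hgC) _).mp
      hx.1, ?_⟩
    exact C.mul_mem (C.mul_mem (g : C).2 hx.2) (C.inv_mem (g : C).2)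
  have hcop : (Nat.card ((X.subgroupOf C).subgroupOf N)).Coprime p := by
    rw [Nat.card_congr (subgroupOfEquivOfLe hXN).toEquiv, Nat.card_congr (subgroupOfEquivOfLe inf_le_right).toEquiv]
    refine Nat.Coprime.coprime_dvd_left (card_dvd_of_le inf_le_left) ?_
    rw [Cfsg.centralizerPPrimeCore, card_map_of_injective (subtype_injective _)]
    exact coprime_card_pPrimeCore p
  have h2 : X.subgroupOf C ≤ Cfsg.pPrimeCore p C := by
    refine le_trans ?_ key
    rw [← map_subgroupOf_eq_of_le hXN]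
    exact map_mono (le_pPrimeCore hcop)
  have h3 := map_mono (f := C.subtype) h2
  rwa [map_subgroupOf_eq_of_le inf_le_right] at h3
where
  le_normalizer_of_mem_centralizer {C : Subgroup G} {b : G} {hbC : b ∈ C} (x : C)
      (h : (x : G) * b = b * (x : G)) : x ∈ normalizer ((zpowers (⟨b, hbC⟩ : C) : Subgroup C) : Set C) := by
    refine Cfsg.Lib.Sft.mem_normalizer_of_conj fun y hy => ?_
    obtain ⟨k, rfl⟩ := mem_zpowers_iff.mp hy
    have hc : Commute x (⟨b, hbC⟩ : C) := Subtype.ext h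
    rw [(hc.zpow_right k).eq, mul_inv_cancel_right]
    exact zpow_mem (mem_zpowers _) k

theorem rankThree_conj {a : G} (ha : RankThree p a) (g : G) : RankThree p (g * a * g⁻¹) := by
  refine ⟨by rw [← ha.1]; exact (orderOf_injective (MulAut.conj g).toMonoidHom (MulAut.conj g).injective a), ?_⟩
  obtain ⟨B, hBC, hB, hB3⟩ := exists_elementary_of_not_pRankLE ha.2
  set g' := (MulAut.conj g).toMonoidHom
  have hB' : Cfsg.IsElementaryAbelian p (B.map g') := by
    refine ⟨⟨⟨?_⟩⟩, ?_⟩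
    · rintro ⟨_, x, hx, rfl⟩ ⟨_, y, hy, rfl⟩
      refine Subtype.ext ?_
      show g' x * g' y = g' y * g' x
      rw [← map_mul, ← map_mul, Cfsg.Lib.Signalizer.comm hB hx hy]
    · rintro _ ⟨x, hx, rfl⟩
      rw [← map_pow, hB.2 x hx, map_one]
  refine not_pRankLE_of_le hB' ((card_conjMap g B).symm ▸ hB3) ?_
  rintro _ ⟨x, hx, rfl⟩
  refine mem_centralizer_singleton_iff.mpr ?_
  show g' x * g' a = g' a * g' x
  rw [← map_mul, ← map_mul, mem_centralizer_singleton_iff.mp (hBC hx)]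

theorem cores_trivial_of_trivial_pLayers (hO : Cfsg.pPrimeCore p G = ⊥)
    (hconn : Cfsg.IsRankGraphConnected p 2 G)
    (hL : ∀ a : G, RankThree p a → Cfsg.pLayer p ↥(centralizer ({a} : Set G)) = ⊥ ∧
      Group.IsSolvable ↥(Cfsg.centralizerPPrimeCore p a))
    {a : G} (ha : RankThree p a) : Cfsg.centralizerPPrimeCore p a = ⊥ := by
  refine trivial_of_connected (θ := fun a => Cfsg.centralizerPPrimeCore p a) (fun b hb => ⟨
    centralizerPPrimeCore_le_centralizer b, ?_, (hL b hb).2⟩) ?_ ?_ hO hconn ha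
  · rw [Cfsg.centralizerPPrimeCore, card_map_of_injective (subtype_injective _)]
    exact hp.out.coprime_iff_not_dvd.mp (coprime_card_pPrimeCore p).symm
  · intro b g _
    exact (centralizerPPrimeCore_map_equiv (MulAut.conj g) b).symm
  · intro b c hb hc hbc
    exact core_balance hb.1 hbc.symm (hL c hc).1

end Cfsg.Lib.Sft
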