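import Cfsg.Agent.Components.Signalizer.Sft.Setup
import Cfsg.Agent.Coprime.InvariantHall
import Cfsg.Agent.Components.PxQ

/-!
The subgroups moved by an element of `A`, witnesses in maximal members, and lines normalising the good
subgroup.
-/

set_option linter.style.haveILetI false
set_option linter.unusedSectionVars false

namespace Cfsg.Lib.Sft

open Subgroup Cfsg.Lib.Coprime Cfsg.Lib.Signalizer
open scoped commutatorElement

universe u

variable {G : Type u} [Group G] [Finite G] {p : ℕ} [hp : Fact p.Prime] {A : Subgroup G}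
  {θ : G → Subgroup G}

local notation "𝓕" => Cfsg.signalizerFamily p A θ
local notation "T" => Cfsg.signalizerInf A θ

theorem le_normalizer_centralizer {U : Subgroup G} :
    normalizer (U : Set G) ≤ normalizer (centralizer (U : Set G) : Set G) := by
  intro g hg
  refine Cfsg.Lib.Sft.mem_normalizer_of_conj fun x hx => mem_centralizer_iff.mpr fun u hu => ?_
  have h1 := mem_centralizer_iff.mp hx _ ((mem_normalizer_iff''.mp hg u).mp hu)
  calc u * (g * x * g⁻¹) = g * ((g⁻¹ * u * g) * x) * g⁻¹ := by group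
    _ = g * (x * (g⁻¹ * u * g)) * g⁻¹ := by rw [h1]
    _ = g * x * g⁻¹ * u := by group

theorem mem_normalizer_zpowers {g h : G} (hc : g * h = h * g) : g ∈ normalizer (zpowers h : Set G) := by
  refine Cfsg.Lib.Sft.mem_normalizer_of_conj fun x hx => ?_
  obtain ⟨k, rfl⟩ := mem_zpowers_iff.mp hx
  rw [(Commute.zpow_right hc k).eq, mul_inv_cancel_right]
  exact zpow_mem (mem_zpowers h) k

theorem mem_normalizer_commutator {X : Subgroup G} {g h : G} (hX : g ∈ normalizer (X : Set G))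
    (hc : g * h = h * g) : g ∈ normalizer ((⁅X, zpowers h⁆ : Subgroup G) : Set G) := by
  rw [← conjMap_eq_self_iff, conjMap, map_commutator]
  exact congrArg₂ _ (conjMap_eq_self hX) (conjMap_eq_self (mem_normalizer_zpowers hc))

theorem commute_of_mem_centralizer {g h : G} (hg : g ∈ centralizer ({h} : Set G)) : g * h = h * g :=
  mem_centralizer_singleton_iff.mp hg

theorem theta_commute (S : Setting p A θ) {a x : G} (ha : a ∈ A) (ha1 : a ≠ 1) (hx : x ∈ θ a) :
    x * a = a * x := commute_of_mem_centralizer (S.functor.1.1 a ha ha1 hx)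

/-! ### the moved subgroup -/

/-- the subgroup generated by the `[θ(D), h]` -/
def moved (p : ℕ) (A : Subgroup G) (θ : G → Subgroup G) (h : G) : Subgroup G :=
  ⨆ D : {D : Subgroup G // IsLine p A D}, ⁅Cfsg.signalizerInf D.1 θ, zpowers h⁆

theorem commutator_theta_le_moved (S : Setting p A θ) {h : G} (hh : h ∈ A) {a : G} (ha : a ∈ A)
    (ha1 : a ≠ 1) : ⁅θ a, zpowers h⁆ ≤ moved p A θ h := by
  have hfam := theta_mem_family S.functor ha ha1
  set K := ⁅θ a, zpowers h⁆
  have hK : K ∈ 𝓕 := commutator_mem_family S hfam hh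
  refine (le_iSup_commutator (A := A) (V := zpowers h)
    (fun D : {D : Subgroup G // IsLine p A D} => D.1)
    (zpowers_le.mpr (mem_centralizer_iff.mpr fun b hb => Cfsg.Lib.Signalizer.comm S.elem hb hh))
    (fun N hN hAN => le_iSup_lines S (fun hd => hK.2.1 (hd.trans (card_dvd_of_le hN))) hAN)
    (fun D => D.2.1) hK.1 (le_normalizer_of_mem_family hK) (zpowers_le_normalizer hK hh)
    (coprime_zpowers_of_mem S hK hh)
    (commutator_commutator_eq (zpowers_le_normalizer hfam hh) (coprime_zpowers_of_mem S hfam hh)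
      (Or.inr hfam.1))).trans ?_
  refine iSup_mono fun D => commutator_mono (fun x hx => mem_inf_iff.mpr fun d hd hd1 => ?_) le_rfl
  exact inf_centralizer_le hK (D.2.1 hd) hd1 hd hx

theorem not_moved_le (S : Critical p A θ) {h : G} (hh : h ∈ A) (hh1 : h ≠ 1) {M : Subgroup G}
    (hM : M ∈ 𝓕) : ¬ moved p A θ h ≤ M := by
  intro hle
  have hAn : A ≤ normalizer (moved p A θ h : Set G) := fun b hb => mem_normalizer_iSup _ fun D =>
    mem_normalizer_commutator
      (le_normalizer_of_mem_family (inf_mem_family S.functor D.2.1 (ne_bot_of_line D.2)) hb)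
      (Cfsg.Lib.Signalizer.comm S.elem hb hh)
  have hfam : moved p A θ h ∈ 𝓕 := mem_family_of_le hM hle hAn
  have hnorm : ∀ a ∈ A, a ≠ 1 → θ a ≤ normalizer (moved p A θ h : Set G) := by
    intro a ha ha1
    have hθ := theta_mem_family S.functor ha ha1
    refine le_of_lines S.toSetting hθ.2.1 (le_normalizer_of_mem_family hθ) fun B hB g hg => ?_
    refine Cfsg.Lib.Sft.mem_normalizer_of_conj fun x hx => ?_
    have hle : conjMap g (moved p A θ h) ≤ moved p A θ h := by
      unfold moved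
      rw [conjMap, Subgroup.map_iSup]
      refine iSup_le fun D => ?_
      obtain ⟨d, hdD, hdB, hd, hd1⟩ := exists_meet S.toSetting D.2 hB
      have hgd : g ∈ θ d := inf_centralizer_le hθ hd hd1 hdB hg
      refine (map_mono (commutator_mono (fun y hy => mem_inf_iff.mp hy d hdD hd1) le_rfl)).trans ?_
      refine ((conjMap_eq_self (g := g) (H := ⁅θ d, zpowers h⁆) ?_).le).trans
        (commutator_theta_le_moved S.toSetting hh hd hd1)
      exact le_normalizer_commutator_left (zpowers h) (θ d) hgd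
    exact hle (mem_map_of_mem _ hx)
  have hbot := S.noNormal _ hfam hnorm
  refine S.noTotal ⟨θ h, theta_mem_family S.functor hh hh1, fun a ha ha1 => ?_⟩
  have h1 : ⁅θ a, zpowers h⁆ = ⊥ := eq_bot_iff.mpr (hbot ▸ commutator_theta_le_moved S.toSetting hh ha ha1)
  rw [commutator_eq_bot_iff_le_centralizer] at h1
  exact fun x hx => S.functor.1.2.2.2 a ha ha1 h hh hh1
    ⟨hx, mem_centralizer_singleton_iff.mpr (mem_centralizer_iff.mp (h1 hx) h (mem_zpowers h)).symm⟩

/-! ### witnesses -/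

theorem le_hall_of_invariant (S : Setting p A θ) {M H X : Subgroup G} (hM : M ∈ 𝓕) {π : Set ℕ}
    (hH : Cfsg.IsPiHallOf π H M) (hAH : A ≤ normalizer (H : Set G)) (hX : X ≤ M)
    (hAX : A ≤ normalizer (X : Set G)) (hXπ : ∀ r : ℕ, r.Prime → r ∣ Nat.card X → r ∈ π)
    (hfix : M ⊓ centralizer (A : Set G) ≤ normalizer (X : Set G)) : X ≤ H := by
  have hAM := le_normalizer_of_mem_family hM
  have hcop := coprime_card S.elem hM.2.1
  obtain ⟨H', hH', hAH', hXH'⟩ := exists_invariantHall_ge hAM hcop hM.1 hX hAX hXπ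
  obtain ⟨c, hc, e⟩ := invariantHall_conj hAM hcop hM.1 hH hAH hH' hAH'
  rw [e] at hXH'
  rw [← conjMap_eq_self (inv_mem (hfix hc)), ← conjMap_inv_conjMap c H]
  exact conjMap_mono hXH'

theorem exists_qcore_ne_bot {M : Subgroup G} (hM : Group.IsSolvable M) (hM1 : M ≠ ⊥) :
    ∃ s : ℕ, s.Prime ∧ qcore s M ≠ ⊥ := by
  by_contra hc
  push Not at hc
  haveI := hM
  haveI : Nontrivial M := (nontrivial_iff_ne_bot M).mpr hM1
  refine fitting_ne_bot (G := ↥M) ?_
  rw [Cfsg.Lib.Components.fitting_eq_iSup_pCore, eq_bot_iff]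
  refine iSup_le fun r => ?_
  exact ((Subgroup.map_eq_bot_iff_of_injective _ M.subtype_injective).mp (hc r.1 r.2)).le

theorem dvd_of_ne_bot {s : ℕ} [Fact s.Prime] {X Y : Subgroup G} (hX : IsPGroup s X) (hX1 : X ≠ ⊥)
    (hle : X ≤ Y) : s ∣ Nat.card Y := by
  haveI : Nontrivial X := (nontrivial_iff_ne_bot X).mpr hX1
  obtain ⟨n, hn0, hn⟩ := hX.nontrivial_iff_card.mp inferInstance
  exact (hn ▸ dvd_pow_self s hn0.ne').trans (card_dvd_of_le hle)

theorem exists_witness (S : Critical p A θ) {h : G} (hh : h ∈ A) (hh1 : h ≠ 1) {M : Subgroup G}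
    (hM : M ∈ 𝓕) (hMm : ∀ M' ∈ 𝓕, M ≤ M' → M' = M) (hθM : θ h ≤ M) :
    ∃ s : ℕ, s.Prime ∧ ¬ qcore s M ≤ centralizer ({h} : Set G) := by
  by_contra hc
  push Not at hc
  have hMh : M ≤ centralizer ({h} : Set G) := by
    have h1 := le_centralizer_of_qcores hM.1 (zpowers_le_normalizer hM hh)
      (coprime_zpowers_of_mem S.toSetting hM hh) fun ℓ hℓ => zpowers_le.mpr
        (mem_centralizer_iff.mpr fun x hx => commute_of_mem_centralizer (hc ℓ hℓ hx))
    exact fun m hm => mem_centralizer_singleton_iff.mpr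
      (mem_centralizer_iff.mp (h1 (mem_zpowers h)) m hm)
  have hMθ : M = θ h := le_antisymm ((le_inf le_rfl hMh).trans (hM.2.2.2 h hh hh1)) hθM
  have hM1 : M ≠ ⊥ := by
    rintro rfl
    refine S.noTotal ⟨⊥, bot_mem_family, fun a ha ha1 => ?_⟩
    exact (hMm (θ a) (theta_mem_family S.functor ha ha1) bot_le).le
  obtain ⟨s, hs, hU1⟩ := exists_qcore_ne_bot hM.1 hM1
  haveI := Fact.mk hs
  set U := qcore s M with hU
  have hUq : IsPGroup s U := isPGroup_qcore
  have hUfam : U ∈ 𝓕 := qcore_mem_family hM s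
  obtain ⟨W, hW, hWn, hWmax⟩ := exists_greatest S hUfam hU1
  have hWM : W = M := hMm W hW (hWmax M hM (le_normalizer.trans le_normalizer_qcore))
  have hsM : s ∣ Nat.card M := dvd_of_ne_bot hUq hU1 qcore_le
  have hsp : s ≠ p := fun e => hM.2.1 (e ▸ hsM)
  obtain ⟨Q₀, hQ₀, hQ₀q, hUQ₀, hQ₀m⟩ := exists_max hUfam hUq
  have hQ₀h : Q₀ ≤ centralizer ({h} : Set G) := by
    have hfix : zpowers h ≤ centralizer (↑(Q₀ ⊓ centralizer (U : Set G)) : Set G) := by
      have hmem : Q₀ ⊓ centralizer (U : Set G) ∈ 𝓕 :=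
        mem_family_inf S.toSetting hQ₀ ((le_normalizer_of_mem_family hUfam).trans le_normalizer_centralizer)
      have hle := hWM ▸ hWmax _ hmem (inf_le_right.trans fun g hg =>
        Cfsg.Lib.Sft.mem_normalizer_of_conj fun u hu => by
          rw [← mem_centralizer_iff.mp hg u hu, mul_inv_cancel_right]; exact hu)
      exact zpowers_le.mpr (mem_centralizer_iff.mpr fun x hx => commute_of_mem_centralizer (hMh (hle hx)))
    have h2 := Cfsg.Lib.Components.pxq (p := s) hUq hQ₀q
      (coprime_zpowers (pow_eq_one S.toSetting hh) ((Nat.coprime_primes hp.out hs).mpr (Ne.symm hsp)))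
      (zpowers_le.mpr (mem_centralizer_iff.mpr fun x hx => commute_of_mem_centralizer (hMh (qcore_le hx))))
      (hUQ₀.trans le_normalizer) (zpowers_le_normalizer hQ₀ hh) hfix
    exact fun m hm => mem_centralizer_singleton_iff.mpr
      (mem_centralizer_iff.mp (h2 (mem_zpowers h)) m hm)
  have hall : ∀ R ∈ 𝓕, IsPGroup s R → R ≤ centralizer ({h} : Set G) := by
    intro R hR hRq
    obtain ⟨R1, hR1, hR1q, hle, hR1m⟩ := exists_max hR hRq
    obtain ⟨c, hc', e⟩ := transitivity S.elem S.card.ge S.functor ⟨h, hh, hh1, hMθ ▸ hsM⟩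
      Q₀ hQ₀ hQ₀q hQ₀m R1 hR1 hR1q hR1m
    have hch : c * h = h * c := theta_commute S.toSetting hh hh1 (inf_le_theta S.toSetting hh hh1 hc')
    refine hle.trans (e ▸ ?_)
    intro x hx
    refine mem_centralizer_singleton_iff.mpr ?_
    have h1 : Commute (c⁻¹ * x * c) h := commute_of_mem_centralizer (hQ₀h (mem_conjMap.mp hx))
    have h2 := (((show Commute c h from hch).mul_left h1).mul_left (Commute.inv_left hch)).eq
    rwa [show c * (c⁻¹ * x * c) * c⁻¹ = x by group] at h2
  have hcop : ∀ a ∈ A, a ≠ 1 → (Nat.card ↥⁅θ a, zpowers h⁆).Coprime s := by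
    intro a ha ha1
    have hfam := theta_mem_family S.functor ha ha1
    obtain ⟨P, hP⟩ := exists_invariant_sylow (le_normalizer_of_mem_family hfam)
      (coprime_card S.elem hfam.2.1) (Or.inr hfam.1) s
    have hPle := hall _ (mem_family_of_le hfam (map_subtype_le _) hP) (P.2.map _)
    refine coprime_commutator_of_centralizes_sylow hfam.1 (le_normalizer_of_mem_family hfam hh) ?_
      (isSylowOf_of_sylow P rfl) fun x hx => commute_of_mem_centralizer (hPle hx)
    exact Nat.Coprime.coprime_dvd_left (orderOf_dvd_of_pow_eq_one (pow_eq_one S.toSetting hh))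
      ((Nat.coprime_primes hp.out hs).mpr (Ne.symm hsp))
  set π : Set ℕ := {r | r ≠ s}
  obtain ⟨H, hH, hAH, -⟩ := exists_invariantHall_ge (le_normalizer_of_mem_family hM)
    (coprime_card S.elem hM.2.1) hM.1 (U := ⊥) (π := π) bot_le
    (fun _ hb => Cfsg.Lib.Sft.mem_normalizer_of_conj fun x hx => by
      rw [mem_bot] at hx ⊢; rw [hx, mul_one, mul_inv_cancel]) (fun r hr hd => by
      rw [card_bot] at hd; exact absurd hd hr.not_dvd_one)
  set ψ : G → Subgroup G := fun a => ⁅θ a, zpowers h⁆ ⊔ (H ⊓ centralizer {a})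
  have hHθ : ∀ a ∈ A, a ≠ 1 → H ⊓ centralizer {a} ≤ θ a := fun a ha ha1 =>
    (inf_le_inf_right _ hH.1).trans (hM.2.2.2 a ha ha1)
  have hK : ∀ a ∈ A, a ≠ 1 → ⁅θ a, zpowers h⁆ ≤ θ a := fun a ha ha1 =>
    commutator_le_of_le_normalizer (zpowers_le_normalizer (theta_mem_family S.functor ha ha1) hh)
  have hAψ : ∀ a ∈ A, A ≤ normalizer ((H ⊓ centralizer {a} : Subgroup G) : Set G) := fun a ha =>
    le_normalizer_inf hAH fun b hb => le_normalizer (mem_centralizer_singleton_iff.mpr
      (Cfsg.Lib.Signalizer.comm S.elem hb ha))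
  obtain ⟨W0, hW0, hW0le⟩ := S.sub ψ (fun a ha ha1 => sup_le (hK a ha ha1) (hHθ a ha ha1))
    (fun a ha ha1 => le_normalizer_sup
      (le_normalizer_of_mem_family (commutator_mem_family S.toSetting (theta_mem_family S.functor ha ha1) hh))
      (hAψ a ha))
    (by
      rintro a ha ha1 b hb hb1 x ⟨hx, hxb⟩
      have hfam := theta_mem_family S.functor ha ha1
      have hKfam := commutator_mem_family S.toSetting hfam hh
      obtain ⟨k, hk, y, hy, rfl⟩ := (mem_sup_of_le_normalizer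
        ((hHθ a ha ha1).trans (le_normalizer_commutator_left (zpowers h) (θ a)))).mp hx
      obtain ⟨k', hk', y', hy', e⟩ := fixed_factorisation (A := zpowers b) (K := θ a)
        (coprime_zpowers_of_mem S.toSetting hfam hb) (Or.inr hfam.1) (hK a ha ha1)
        (zpowers_le_normalizer hKfam hb) (zpowers_le.mpr (hAψ a ha hb)) hk hy
        (by rw [centralizer_zpowers]; exact hxb)
      rw [e]
      rw [centralizer_zpowers] at hk' hy'
      refine mul_mem ?_ (mem_sup_right ⟨hy'.1.1, hy'.2⟩)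
      set Kb := ⁅θ a, zpowers h⁆ ⊓ centralizer {b}
      have hKb : Kb ∈ 𝓕 := mem_family_inf S.toSetting hKfam
        fun c hc => le_normalizer (mem_centralizer_singleton_iff.mpr (Cfsg.Lib.Signalizer.comm S.elem hc hb))
      have hKbθ : Kb ≤ θ b := (inf_le_inf_right _ (hK a ha ha1)).trans (S.functor.1.2.2.2 a ha ha1 b hb hb1)
      have hk2 : k' ∈ ⁅Kb, zpowers h⁆ ⊔ (Kb ⊓ centralizer (zpowers h : Set G)) := by
        rw [commutator_sup_centralizer (zpowers_le_normalizer hKb hh) (coprime_zpowers_of_mem S.toSetting hKb hh)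
          (Or.inr hKb.1)]
        exact hk'
      refine (sup_le (le_trans (commutator_mono hKbθ le_rfl) le_sup_left) ?_) hk2
      rw [centralizer_zpowers]
      refine le_trans (le_inf ?_ (inf_le_left.trans inf_le_right)) le_sup_right
      refine le_hall_of_invariant S.toSetting hM hH hAH
        ((le_inf (le_refl _) inf_le_right).trans ((inf_le_inf_right _ inf_le_left).trans
          ((hKb.2.2.2 h hh hh1).trans hθM)))
        (le_normalizer_inf (le_normalizer_of_mem_family hKb)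
          fun c hc => le_normalizer (mem_centralizer_singleton_iff.mpr (Cfsg.Lib.Signalizer.comm S.elem hc hh)))
        (fun r hr hd => fun e => ?_) fun c hc => ?_
      · have h3 := hd.trans ((card_dvd_of_le inf_le_left).trans (card_dvd_of_le inf_le_left))
        exact hr.ne_one (Nat.eq_one_of_dvd_coprimes (hcop a ha ha1) h3 (e ▸ dvd_rfl))
      · have hcT := inf_centralizer_le_inf hM hc
        have hcA : ∀ z ∈ A, c * z = z * c := fun z hz => (mem_centralizer_iff.mp hc.2 z hz).symm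
        refine Cfsg.Lib.Sft.mem_normalizer_of_conj fun z hz => ?_
        refine ⟨⟨(mem_normalizer_iff.mp (mem_normalizer_commutator
          (le_normalizer (inf_le_theta S.toSetting ha ha1 hcT)) (hcA h hh)) z).mp hz.1.1, ?_⟩, ?_⟩
        · have hcb : c ∈ centralizer ({b} : Set G) := mem_centralizer_singleton_iff.mpr (hcA b hb)
          exact Subgroup.mul_mem _ (Subgroup.mul_mem _ hcb hz.1.2) (Subgroup.inv_mem _ hcb)
        · have hch : c ∈ centralizer ({h} : Set G) := mem_centralizer_singleton_iff.mpr (hcA h hh)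
          exact Subgroup.mul_mem _ (Subgroup.mul_mem _ hch hz.2) (Subgroup.inv_mem _ hch))
    ⟨h, hh, hh1, fun e => by
      have h1 : ψ h ≤ H := by
        refine sup_le ?_ inf_le_left
        rw [commutator_eq_bot_iff_le_centralizer.mpr]
        · exact bot_le
        · rw [centralizer_zpowers]; exact S.functor.1.1 h hh hh1
      rw [e, ← hMθ] at h1
      exact hH.2.1 s hs (hsM.trans (card_dvd_of_le h1)) rfl⟩
  refine not_moved_le S hh hh1 hW0 (iSup_le fun D => ?_)
  obtain ⟨d, hdD, hd, hd1⟩ := exists_ne_one_of_line D.2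
  exact (commutator_mono (fun y hy => mem_inf_iff.mp hy d hdD hd1) le_rfl).trans
    (le_sup_left.trans (hW0le d hd hd1))

theorem good_of_witness (S : Setting p A θ) {q : ℕ} [hq : Fact q.Prime] {h : G} (hh : h ∈ A) (hh1 : h ≠ 1)
    {M : Subgroup G} (hM : M ∈ 𝓕) (hθM : θ h ≤ M) {V : Subgroup G} (hV : V ≤ qcore q M)
    (hAV : A ≤ normalizer (V : Set G)) (hcase : q ≠ 2 ∨ ∀ a ∈ V, ∀ b ∈ V, a * b = b * a) :
    ⁅V, zpowers h⁆ ≤ good p q A θ := by
  have hVM : V ≤ M := hV.trans qcore_le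
  have hVfam : V ∈ 𝓕 := mem_family_of_le hM hVM hAV
  have hVq : IsPGroup q V := isPGroup_qcore.to_le hV
  rcases eq_or_ne V ⊥ with rfl | hV1
  · rw [commutator_bot_left]; exact bot_le
  have hqp : q ≠ p := fun e => hM.2.1 (e ▸ dvd_of_ne_bot hVq hV1 hVM)
  set K := ⁅V, zpowers h⁆
  have hK : K ∈ 𝓕 := commutator_mem_family S hVfam hh
  have hKV : K ≤ V := commutator_le_of_le_normalizer (zpowers_le_normalizer hVfam hh)
  refine (le_iSup_commutator (A := A) (V := zpowers h)
    (fun D : {D : Subgroup G // IsLine p A D} => D.1)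
    (zpowers_le.mpr (mem_centralizer_iff.mpr fun b hb => Cfsg.Lib.Signalizer.comm S.elem hb hh))
    (fun N hN hAN => le_iSup_lines S (fun hd => hK.2.1 (hd.trans (card_dvd_of_le hN))) hAN)
    (fun D => D.2.1) hK.1 (le_normalizer_of_mem_family hK) (zpowers_le_normalizer hK hh)
    (coprime_zpowers_of_mem S hK hh)
    (commutator_commutator_eq (zpowers_le_normalizer hVfam hh) (coprime_zpowers_of_mem S hVfam hh)
      (Or.inr hVfam.1))).trans (iSup_le fun D w hw => ?_)
  refine mem_good_of_line S D.2 fun d hdD hd hd1 => ?_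
  have hfam := theta_mem_family S.functor hd hd1
  set Y := V ⊓ centralizer ({d} : Set G)
  have hw' : w ∈ ⁅Y, zpowers h⁆ :=
    (commutator_mono (show K ⊓ centralizer ((D : Subgroup G) : Set G) ≤ Y from fun x hx => ⟨hKV hx.1,
      mem_centralizer_singleton_iff.mpr (mem_centralizer_iff.mp hx.2 d hdD).symm⟩) le_rfl) hw
  have hYθ : Y ≤ θ d := hVfam.2.2.2 d hd hd1
  have hYq : IsPGroup q Y := hVq.to_le inf_le_left
  have hYA : A ≤ normalizer (Y : Set G) := le_normalizer_inf hAV fun b hb =>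
    le_normalizer (mem_centralizer_singleton_iff.mpr (Cfsg.Lib.Signalizer.comm S.elem hb hd))
  have hwY : w ∈ Y := commutator_le_of_le_normalizer (zpowers_le.mpr (hYA hh)) hw'
  refine mem_qcore_of_commutators hfam.1 (hYθ hwY) hYq hwY ?_
  refine section_commutator (p := p) (pow_eq_one S hh) hYq hqp qcore_le_qqcore
    (qqcore_le.trans (le_normalizer.trans le_normalizer_qcore))
    (hYθ.trans (le_normalizer.trans le_normalizer_qcore))
    (le_normalizer_qcore (le_normalizer_of_mem_family hfam hh)) (hYA hh)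
    (le_normalizer_qqcore (le_normalizer_of_mem_family hfam hh))
    (hYθ.trans (le_normalizer.trans le_normalizer_qqcore)) (isSolvable_of_le qqcore_le hfam.1)
    (Nat.Coprime.coprime_dvd_left (card_dvd_of_le qqcore_le) (coprime_p hfam)) coprime_relIndex_qqcore
    ?_ ?_ w hw'
  · intro c hc hch y hy
    have hcM : c ∈ M :=
      hθM (S.functor.1.2.2.2 d hd hd1 h hh hh1 ⟨qqcore_le hc, mem_centralizer_singleton_iff.mpr hch.symm⟩)
    refine mem_qcore_of_mem_qqcore ?_ isPGroup_qcore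
      (commutatorElement_mem_right (hV hy.1) (le_normalizer_qcore (le_normalizer hcM)))
    rw [commutatorElement_def]
    exact mul_mem ((mem_normalizer_iff.mp (le_normalizer_qqcore (le_normalizer (hYθ hy))) c).mp hc)
      (inv_mem hc)
  · exact hcase.imp id fun hc => Or.inl fun a ha b hb => hc a ha.1 b hb.1

/-! ### climbing -/

/-- `b` is fine for `q`: there is a non-trivial `θ(b)`-invariant `q`-member -/
def Fine (p q : ℕ) (A : Subgroup G) (θ : G → Subgroup G) (b : G) : Prop :=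
  ∃ R ∈ Cfsg.signalizerFamily p A θ, IsPGroup q R ∧ R ≠ ⊥ ∧ θ b ≤ normalizer (R : Set G)

theorem fine_of_inf_ne_bot (S : Setting p A θ) {q : ℕ} [Fact q.Prime] {b : G} {H : Subgroup G}
    (hH : H ∈ 𝓕) (hbH : θ b ≤ H) (hne : good p q A θ ⊓ H ≠ ⊥) : Fine p q A θ b :=
  ⟨qcore q H, qcore_mem_family hH q, isPGroup_qcore,
    fun e => hne (eq_bot_iff.mpr (e ▸ good_inf_le_qcore S hH)),
    hbH.trans (le_normalizer.trans le_normalizer_qcore)⟩

theorem fine_of_centralizer (S : Setting p A θ) {q : ℕ} [Fact q.Prime] {b : G} (hb : b ∈ A) (hb1 : b ≠ 1)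
    (hne : good p q A θ ⊓ centralizer {b} ≠ ⊥) : Fine p q A θ b :=
  fine_of_inf_ne_bot S (theta_mem_family S.functor hb hb1) le_rfl fun e => hne (eq_bot_iff.mpr
    ((le_inf inf_le_left ((good_mem_family S).2.2.2 b hb hb1)).trans e.le))

theorem climb (S : Critical p A θ) {q : ℕ} [hq : Fact q.Prime] {b : G} (hb : b ∈ A) (hb1 : b ≠ 1)
    (hf : Fine p q A θ b) :
    ∃ R ∈ 𝓕, IsPGroup q R ∧ good p q A θ ≤ R ∧ θ b ≤ normalizer (R : Set G) ∧
      ∃ H ∈ 𝓕, θ b ≤ H ∧ R = qcore q H := by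
  obtain ⟨R₀, hR₀, hR₀q, hR₀1, hR₀n⟩ := hf
  obtain ⟨R, ⟨hR, hRq, hRn, hR₀R⟩, hmax⟩ := (Set.toFinite
    {R : Subgroup G | R ∈ 𝓕 ∧ IsPGroup q R ∧ θ b ≤ normalizer (R : Set G) ∧ R₀ ≤ R}).exists_maximal
    ⟨R₀, hR₀, hR₀q, hR₀n, le_rfl⟩
  have hR1 : R ≠ ⊥ := fun e => hR₀1 (eq_bot_iff.mpr (e ▸ hR₀R))
  have hqp : q ≠ p := fun e => hR.2.1 (e ▸ dvd_of_ne_bot hRq hR1 le_rfl)
  have hθ := theta_mem_family S.functor hb hb1
  have hTb := inf_le_theta S.toSetting hb hb1
  have hOR : qcore q (θ b) ≤ R := by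
    have hn : qcore q (θ b) ≤ normalizer (R : Set G) := qcore_le.trans hRn
    exact le_sup_right.trans (hmax
      ⟨sup_mem_family S.elem hR (qcore_mem_family hθ q) hn, hRq.to_sup_of_normal_left' isPGroup_qcore hn,
        le_normalizer_sup hRn (le_normalizer.trans le_normalizer_qcore), hR₀R.trans le_sup_left⟩ le_sup_left)
  obtain ⟨H, hH, hHn, hHmax⟩ := exists_greatest S hR hR1
  have hbH : θ b ≤ H := hHmax _ hθ hRn
  have hRH : R = qcore q H := by
    have h1 : R ≤ qcore q H := le_qcore (hHmax R hR le_normalizer) hHn hRq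
    exact le_antisymm h1 (hmax ⟨qcore_mem_family hH q, isPGroup_qcore,
      hbH.trans (le_normalizer.trans le_normalizer_qcore), hR₀R.trans h1⟩ h1)
  refine ⟨R, hR, hRq, ?_, hRn, H, hH, hbH, hRH⟩
  obtain ⟨Q, hQ, hQq, hQm⟩ := exists_max_member (p := p) (A := A) (θ := θ) q
  have hRQ : R ≤ Q := le_max_of_invariant S.toSetting hQ hQq hQm hR hRq (hTb.trans hRn)
  set Q' := good p q A θ ⊔ R
  have hQ'Q : Q' ≤ Q := sup_le (good_le S.toSetting hQ hQq hQm) hRQ
  have hQ'A : A ≤ normalizer (Q' : Set G) :=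
    le_normalizer_sup (A_le_normalizer_good S.toSetting) (le_normalizer_of_mem_family hR)
  have hQ' : Q' ∈ 𝓕 := mem_family_of_le hQ hQ'Q hQ'A
  have hQ'q : IsPGroup q Q' := hQq.to_le hQ'Q
  set X := Q' ⊓ H
  have hX : X ∈ 𝓕 := mem_family_inf S.toSetting hQ' (le_normalizer_of_mem_family hH)
  have hRX : R ≤ X := le_inf le_sup_right (hHmax R hR le_normalizer)
  have hXq : IsPGroup q X := hQ'q.to_le inf_le_left
  have hYq : ∀ B, IsPGroup q (coreJoin q A θ B ⊔ R : Subgroup G) := fun B =>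
    hQq.to_le (sup_le (coreJoin_le S.toSetting hQ hQq hQm B) hRQ)
  have hXY : ∀ B, IsLine p A B → X ≤ coreJoin q A θ B ⊔ R := fun B hB =>
    inf_le_left.trans (sup_le_sup_right (good_le_coreJoin hB) _)
  have hXb : X ⊓ centralizer ({b} : Set G) ≤ R := fun z hz =>
    hOR (mem_qcore_of_lines S.toSetting hθ (hX.2.2.2 b hb hb1 hz) hXq hz.1 fun B hB =>
      ⟨_, hYq B, hXY B hB hz.1, le_normalizer_sup (le_normalizer_coreJoin hθ B) (inf_le_left.trans hRn)⟩)
  have hXR : X ≤ R := by
    have hNfix : ∀ c ∈ qqcore q H, b * c = c * b → ∀ y ∈ X, ⁅y, c⁆ ∈ R := by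
      intro c hc hbc
      have hNb : qqcore q H ⊓ centralizer ({b} : Set G) ∈ 𝓕 := mem_family_inf S.toSetting
        (mem_family_of_le hH qqcore_le ((le_normalizer_of_mem_family hH).trans le_normalizer_qqcore))
        fun a ha => le_normalizer (mem_centralizer_singleton_iff.mpr (Cfsg.Lib.Signalizer.comm S.elem ha hb))
      intro y hy
      have hle : qqcore q H ⊓ centralizer ({b} : Set G) ≤ commInto R y := by
        refine le_of_lines S.toSetting hNb.2.1 (le_normalizer_of_mem_family hNb) fun B hB k hk => ?_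
        have hkθ : k ∈ θ b := hH.2.2.2 b hb hb1 ⟨qqcore_le hk.1.1, hk.1.2⟩
        refine ⟨hRn hkθ, ?_⟩
        rw [hRH]
        refine mem_qcore_of_mem_qqcore ?_ (hYq B) (commutatorElement_mem_right (hXY B hB hy)
          (le_normalizer_sup (le_normalizer_coreJoin hθ B) (inf_le_left.trans hRn) ⟨hkθ, hk.2⟩))
        rw [commutatorElement_def]
        exact mul_mem ((mem_normalizer_iff.mp (le_normalizer_qqcore (le_normalizer hy.2)) k).mp hk.1.1)
          (inv_mem hk.1.1)
      exact (hle ⟨hc, mem_centralizer_singleton_iff.mpr hbc.symm⟩).2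
    have hsec := section_commutator (p := p) (R := R) (Y := X) (N := qqcore q H) (pow_eq_one S.toSetting hb)
      hXq hqp (hRH ▸ qcore_le_qqcore) (qqcore_le.trans hHn) (inf_le_right.trans hHn)
      (le_normalizer_of_mem_family hR hb) (le_normalizer_of_mem_family hX hb)
      (le_normalizer_qqcore (le_normalizer_of_mem_family hH hb))
      (inf_le_right.trans (le_normalizer.trans le_normalizer_qqcore)) (isSolvable_of_le qqcore_le hH.1)
      (Nat.Coprime.coprime_dvd_left (card_dvd_of_le qqcore_le) (coprime_p hH))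
      (hRH ▸ coprime_relIndex_qqcore) hNfix (Or.inr (Or.inr ⟨hRX, hXb⟩))
    rw [← commutator_sup_centralizer (zpowers_le_normalizer hX hb) (coprime_zpowers_of_mem S.toSetting hX hb)
      (Or.inr hX.1), centralizer_zpowers]
    refine sup_le (fun y hy => ?_) hXb
    have hyX : y ∈ X := commutator_le_of_le_normalizer (zpowers_le_normalizer hX hb) hy
    rw [hRH]
    exact mem_qcore_of_commutators hH.1 hyX.2 hXq hyX fun n hn => hRH ▸ hsec y hy n hn
  have hmem : Q' ⊓ normalizer (R : Set G) ∈ 𝓕 := mem_family_inf S.toSetting hQ'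
    ((le_normalizer_of_mem_family hR).trans le_normalizer)
  have hN : Q' ⊓ normalizer (R : Set G) ≤ R :=
    (le_inf inf_le_left (hHmax _ hmem inf_le_right)).trans hXR
  by_contra hPR
  haveI := hQ'q.isNilpotent
  have hlt : R.subgroupOf Q' < ⊤ := lt_top_iff_ne_top.mpr fun e =>
    hPR (le_sup_left.trans (subgroupOf_eq_top.mp e))
  obtain ⟨x, hxn, hxR⟩ := SetLike.exists_of_lt (Group.normalizerCondition_of_isNilpotent (G := Q') _ hlt)
  rw [← subgroupOf_normalizer_eq le_sup_right] at hxn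
  exact hxR (hN ⟨x.2, hxn⟩)

/-! ### lines normalising the good subgroup -/

theorem line_le_normalizer_of_fine (S : Critical p A θ) {q : ℕ} [Fact q.Prime] {B : Subgroup G}
    (hB : IsLine p A B) (hf : ∀ e ∈ B, e ∈ A → e ≠ 1 → Fine p q A θ e) :
    Cfsg.signalizerInf B θ ≤ normalizer (good p q A θ : Set G) := by
  have hc := fun e : {e : G // e ∈ B ∧ e ∈ A ∧ e ≠ 1} => climb S e.2.2.1 e.2.2.2 (hf e.1 e.2.1 e.2.2.1 e.2.2.2)
  choose R hR hRq hPR hRn _ using hc
  set I := ⨅ e, R e
  obtain ⟨e₀, he₀B, he₀, he₀1⟩ := exists_ne_one_of_line hB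
  have hI : I ∈ 𝓕 := mem_family_of_le (hR ⟨e₀, he₀B, he₀, he₀1⟩) (iInf_le _ _)
    fun b hb => mem_normalizer_iInf _ fun e => le_normalizer_of_mem_family (hR e) hb
  have hIP : I ≤ good p q A θ := by
    refine le_of_lines S.toSetting hI.2.1 (le_normalizer_of_mem_family hI) fun D hD z hz => ?_
    refine mem_good_of_line S.toSetting hD fun d hdD hd hd1 => ?_
    have hfam := theta_mem_family S.functor hd hd1
    refine mem_qcore_of_lines S.toSetting hfam (inf_centralizer_le hI hd hd1 hdD hz)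
      ((hRq ⟨e₀, he₀B, he₀, he₀1⟩).to_le (iInf_le _ _)) hz.1 fun L hL => ?_
    obtain ⟨e, heL, heB, he, he1⟩ := exists_meet S.toSetting hL hB
    exact ⟨R ⟨e, heB, he, he1⟩, hRq _, mem_iInf.mp hz.1 _,
      (inf_centralizer_le hfam he he1 heL).trans (hRn ⟨e, heB, he, he1⟩)⟩
  rw [← le_antisymm hIP (le_iInf hPR)]
  exact fun g hg => mem_normalizer_iInf _ fun e => hRn e (mem_inf_iff.mp hg e.1 e.2.1 e.2.2.2)

theorem line_le_normalizer_of_two (S : Critical p A θ) {q : ℕ} [Fact q.Prime] (hq2 : q ≠ 2)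
    {B : Subgroup G} (hB : IsLine p A B) {d₁ d₂ : G} (h₁B : d₁ ∈ B) (h₂B : d₂ ∈ B) (h₁ : d₁ ≠ 1) (h₂ : d₂ ≠ 1)
    (hf₁ : Fine p q A θ d₁) (hf₂ : Fine p q A θ d₂)
    (hspan : ∀ D : Subgroup G, IsLine p A D → d₁ ∈ D → d₂ ∈ D → B ≤ D) :
    Cfsg.signalizerInf B θ ≤ normalizer (good p q A θ : Set G) := by
  set P := good p q A θ
  by_cases hPB : P ⊓ centralizer (B : Set G) = ⊥
  swap
  · refine line_le_normalizer_of_fine S hB fun e he heA he1 => fine_of_centralizer S.toSetting heA he1 ?_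
    exact fun h => hPB (eq_bot_iff.mpr ((inf_le_inf_left _
      (centralizer_le (Set.singleton_subset_iff.mpr he))).trans h.le))
  obtain ⟨R₁, hR₁, -, hPR₁, hn₁, H₁, hH₁, hd₁H, e₁⟩ := climb S (hB.1 h₁B) h₁ hf₁
  obtain ⟨R₂, hR₂, -, hPR₂, hn₂, H₂, hH₂, hd₂H, e₂⟩ := climb S (hB.1 h₂B) h₂ hf₂
  set I := R₁ ⊓ R₂
  have g₁ : ⁅I, zpowers d₁⁆ ≤ P := (commutator_mono inf_le_left le_rfl).trans
    (good_of_witness S.toSetting (hB.1 h₁B) h₁ hH₁ hd₁H e₁.le (le_normalizer_of_mem_family hR₁) (Or.inl hq2))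
  have g₂ : ⁅I, zpowers d₂⁆ ≤ P := (commutator_mono inf_le_right le_rfl).trans
    (good_of_witness S.toSetting (hB.1 h₂B) h₂ hH₂ hd₂H e₂.le (le_normalizer_of_mem_family hR₂) (Or.inl hq2))
  have hP := good_mem_family (q := q) S.toSetting
  have hle : P ≤ ⁅I, zpowers d₁⁆ ⊔ ⁅I, zpowers d₂⁆ := by
    refine le_of_lines S.toSetting hP.2.1 (le_normalizer_of_mem_family hP) fun D hD => ?_
    have hC : P ⊓ centralizer (D : Set G) ∈ 𝓕 :=
      mem_family_inf S.toSetting hP (A_le_normalizer_centralizer S.elem hD.1)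
    have hmov : ∀ d ∈ B, d ∉ D → P ⊓ centralizer (D : Set G) ≤ ⁅I, zpowers d⁆ := by
      intro d hd hdD
      rw [← commutator_sup_centralizer (zpowers_le_normalizer hC (hB.1 hd))
        (coprime_zpowers_of_mem S.toSetting hC (hB.1 hd)) (Or.inr hC.1), centralizer_zpowers]
      refine sup_le (commutator_mono (inf_le_left.trans (le_inf hPR₁ hPR₂)) le_rfl)
        (le_trans (le_trans ?_ hPB.le) bot_le)
      have hA : A ≤ D ⊔ zpowers d := by
        have hsub : D ⊔ zpowers d ≤ A := sup_le hD.1 (zpowers_le.mpr (hB.1 hd))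
        have hlt : Nat.card D < Nat.card ↥(D ⊔ zpowers d) := by
          refine Nat.lt_of_not_le fun h => hdD ?_
          exact (eq_of_le_of_card_ge le_sup_left h).symm ▸ mem_sup_right (mem_zpowers d)
        obtain ⟨i, hi, ei⟩ := (Nat.dvd_prime_pow hp.out).mp (S.card ▸ card_dvd_of_le hsub)
        have h2 : p ^ 2 < p ^ i := ei ▸ hD.2.trans_lt hlt
        have h3 : 2 < i := (Nat.pow_lt_pow_iff_right hp.out.one_lt).mp h2
        refine (eq_of_le_of_card_ge hsub ?_).ge
        rw [S.card, ei]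
        exact Nat.pow_le_pow_right hp.out.pos h3
      rintro x ⟨⟨hxP, hxD⟩, hxd⟩
      refine ⟨hxP, mem_centralizer_iff.mpr fun b hb => ?_⟩
      have hall : D ⊔ zpowers d ≤ centralizer ({x} : Set G) := sup_le
        (fun y hy => mem_centralizer_singleton_iff.mpr (mem_centralizer_iff.mp hxD y hy))
        (zpowers_le.mpr (mem_centralizer_singleton_iff.mpr (commute_of_mem_centralizer hxd).symm))
      exact mem_centralizer_singleton_iff.mp (hall (hA (hB.1 hb)))
    by_cases hd₁ : d₁ ∈ D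
    · by_cases hd₂ : d₂ ∈ D
      · exact le_trans ((inf_le_inf_left _ (centralizer_le (SetLike.coe_subset_coe.mpr (hspan D hD hd₁ hd₂)))).trans
          hPB.le) bot_le
      · exact (hmov d₂ h₂B hd₂).trans le_sup_right
    · exact (hmov d₁ h₁B hd₁).trans le_sup_left
  rw [show P = ⁅I, zpowers d₁⁆ ⊔ ⁅I, zpowers d₂⁆ from le_antisymm hle (sup_le g₁ g₂)]
  intro g hg
  have hgI : g ∈ normalizer (I : Set G) :=
    le_normalizer_inf (H := Cfsg.signalizerInf B θ) (fun x hx => hn₁ (mem_inf_iff.mp hx d₁ h₁B h₁))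
      (fun x hx => hn₂ (mem_inf_iff.mp hx d₂ h₂B h₂)) hg
  exact le_normalizer_sup
    (H := zpowers g) (zpowers_le.mpr (mem_normalizer_commutator hgI
      (theta_commute S.toSetting (hB.1 h₁B) h₁ (mem_inf_iff.mp hg d₁ h₁B h₁))))
    (zpowers_le.mpr (mem_normalizer_commutator hgI
      (theta_commute S.toSetting (hB.1 h₂B) h₂ (mem_inf_iff.mp hg d₂ h₂B h₂)))) (mem_zpowers g)

end Cfsg.Lib.Sft
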