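import Cfsg.Agent.Components.Signalizer.Basic
import Cfsg.Agent.Components.Signalizer.Sft.Actions

/-!
The setting of a minimal counterexample to the solvable signalizer functor theorem and the subgroup of good
`q`-elements.
-/

set_option linter.style.haveILetI false
set_option linter.unusedSectionVars false

namespace Cfsg.Lib.Sft

open Subgroup Cfsg.Lib.Coprime Cfsg.Lib.Signalizer
open scoped commutatorElement

universe u

variable {G : Type u} [Group G] [Finite G] {p : ℕ} [hp : Fact p.Prime] {A : Subgroup G}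
  {θ : G → Subgroup G}

/-- the subgroups of index at most `p` in `A`, where `|A| = p³` -/
def IsLine (p : ℕ) (A B : Subgroup G) : Prop := B ≤ A ∧ p ^ 2 ≤ Nat.card B

/-- `A` has order `p³` and `θ` is a solvable signalizer functor -/
structure Setting (p : ℕ) (A : Subgroup G) (θ : G → Subgroup G) : Prop where
  elem : Cfsg.IsElementaryAbelian p A
  card : Nat.card A = p ^ 3
  functor : Cfsg.IsSolvableSignalizerFunctor p A θ

/-- the properties of a minimal counterexample -/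
structure Critical (p : ℕ) (A : Subgroup G) (θ : G → Subgroup G) : Prop extends Setting p A θ where
  sub : ∀ φ : G → Subgroup G, (∀ a ∈ A, a ≠ 1 → φ a ≤ θ a) →
    (∀ a ∈ A, a ≠ 1 → A ≤ normalizer (φ a : Set G)) →
    (∀ a ∈ A, a ≠ 1 → ∀ b ∈ A, b ≠ 1 → φ a ⊓ centralizer {b} ≤ φ b) →
    (∃ a ∈ A, a ≠ 1 ∧ φ a ≠ θ a) →
    ∃ W ∈ Cfsg.signalizerFamily p A θ, ∀ a ∈ A, a ≠ 1 → φ a ≤ W
  noNormal : ∀ U ∈ Cfsg.signalizerFamily p A θ,
    (∀ a ∈ A, a ≠ 1 → θ a ≤ normalizer (U : Set G)) → U = ⊥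
  noTotal : ¬ ∃ W ∈ Cfsg.signalizerFamily p A θ, ∀ a ∈ A, a ≠ 1 → θ a ≤ W

local notation "𝓕" => Cfsg.signalizerFamily p A θ
local notation "T" => Cfsg.signalizerInf A θ

/-! ### lines -/

theorem isLine_top (S : Setting p A θ) : IsLine p A A :=
  ⟨le_rfl, by rw [S.card]; exact Nat.pow_le_pow_right hp.out.pos (by norm_num)⟩

theorem ne_bot_of_line {B : Subgroup G} (hB : IsLine p A B) : B ≠ ⊥ := fun h => by
  have h2 := hB.2
  rw [h, card_bot] at h2
  exact absurd h2 (not_le.mpr (Nat.one_lt_pow (by norm_num) hp.out.one_lt))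

theorem A_ne_bot (S : Setting p A θ) : A ≠ ⊥ := ne_bot_of_line (isLine_top S)

theorem exists_meet (S : Setting p A θ) {B C : Subgroup G} (hB : IsLine p A B) (hC : IsLine p A C) :
    ∃ e, e ∈ B ∧ e ∈ C ∧ e ∈ A ∧ e ≠ 1 := by
  obtain ⟨e, he, he1⟩ : ∃ e ∈ C ⊓ B, e ≠ 1 := exists_ne_one fun h => by
    have hn : B ≤ normalizer (C : Set G) := fun b hb => Cfsg.Lib.Sft.mem_normalizer_of_conj fun c hc => by
      rw [Cfsg.Lib.Signalizer.comm S.elem (hB.1 hb) (hC.1 hc), mul_inv_cancel_right]; exact hc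
    have h2 := card_sup_mul_card_inf hn
    rw [h, card_bot, mul_one] at h2
    have h3 : Nat.card ↥(C ⊔ B) ≤ p ^ 3 :=
      S.card ▸ Nat.le_of_dvd Nat.card_pos (card_dvd_of_le (sup_le hC.1 hB.1))
    rw [h2] at h3
    have h4 : p ^ 2 * p ^ 2 ≤ p ^ 3 := (Nat.mul_le_mul hC.2 hB.2).trans h3
    rw [← pow_add] at h4
    exact absurd h4 (not_le.mpr (Nat.pow_lt_pow_right hp.out.one_lt (by norm_num)))
  exact ⟨e, he.2, he.1, hB.1 he.2, he1⟩

theorem exists_ne_one_of_line {B : Subgroup G} (hB : IsLine p A B) : ∃ e, e ∈ B ∧ e ∈ A ∧ e ≠ 1 := by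
  obtain ⟨e, he, he1⟩ := exists_ne_one (ne_bot_of_line hB)
  exact ⟨e, he, hB.1 he, he1⟩

/-- generation by the centralisers of lines -/
theorem le_iSup_lines (S : Setting p A θ) {K : Subgroup G} (hK : ¬ p ∣ Nat.card K)
    (hAK : A ≤ normalizer (K : Set G)) :
    K ≤ ⨆ B : {B : Subgroup G // IsLine p A B}, K ⊓ centralizer ((B : Subgroup G) : Set G) := by
  have hA2 : p ^ 2 ≤ Nat.card A := (isLine_top S).2
  refine (Cfsg.Agent.S1324.result p A K S.elem hA2 hK hAK).le.trans (iSup_le fun B => ?_)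
  have hB : IsLine p A (B : Subgroup G) := by
    refine ⟨B.2.1, ?_⟩
    have h := relIndex_mul_relIndex ⊥ (B : Subgroup G) A bot_le B.2.1
    rw [relIndex_bot_left, relIndex_bot_left, S.card] at h
    have h1 : p ^ 2 * p ≤ Nat.card (B : Subgroup G) * p := by
      rw [← pow_succ]
      exact h.ge.trans (Nat.mul_le_mul_left _ B.2.2)
    exact Nat.le_of_mul_le_mul_right h1 hp.out.pos
  exact le_iSup (fun B : {B : Subgroup G // IsLine p A B} => K ⊓ centralizer ((B : Subgroup G) : Set G))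
    ⟨B, hB⟩

theorem le_of_lines (S : Setting p A θ) {K X : Subgroup G} (hK : ¬ p ∣ Nat.card K)
    (hAK : A ≤ normalizer (K : Set G))
    (h : ∀ B, IsLine p A B → K ⊓ centralizer (B : Set G) ≤ X) : K ≤ X :=
  (le_iSup_lines S hK hAK).trans (iSup_le fun B => h B.1 B.2)

/-! ### members -/

theorem A_le_normalizer_centralizer (hA : Cfsg.IsElementaryAbelian p A) {B : Subgroup G} (hB : B ≤ A) :
    A ≤ normalizer (centralizer (B : Set G) : Set G) := fun a ha =>
  le_normalizer (mem_centralizer_iff.mpr fun b hb => Cfsg.Lib.Signalizer.comm hA (hB hb) ha)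

theorem inf_centralizer_le {X : Subgroup G} (hX : X ∈ 𝓕) {B : Subgroup G} {e : G} (he : e ∈ A)
    (he1 : e ≠ 1) (heB : e ∈ B) : X ⊓ centralizer (B : Set G) ≤ θ e := fun x hx =>
  hX.2.2.2 e he he1
    ⟨hx.1, mem_centralizer_singleton_iff.mpr (mem_centralizer_iff.mp hx.2 e heB).symm⟩

theorem inf_centralizer_le_inf {X : Subgroup G} (hX : X ∈ 𝓕) :
    X ⊓ centralizer (A : Set G) ≤ T := fun _ hx => mem_inf_iff.mpr fun a ha ha1 =>
  inf_centralizer_le hX ha ha1 ha hx

theorem inf_le_theta (S : Setting p A θ) {a : G} (ha : a ∈ A) (ha1 : a ≠ 1) : T ≤ θ a :=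
  fun _ hx => mem_inf_iff.mp hx a ha ha1

theorem bot_mem_family : (⊥ : Subgroup G) ∈ 𝓕 := by
  refine ⟨inferInstance, by rw [card_bot]; exact hp.out.not_dvd_one, fun b _ x hx => ?_, fun a _ _ => ?_⟩
  · rw [mem_bot] at hx ⊢
    rw [hx, mul_one, mul_inv_cancel]
  · rw [bot_inf_eq]; exact bot_le

theorem mem_family_inf (S : Setting p A θ) {X : Subgroup G} (hX : X ∈ 𝓕) {Y : Subgroup G}
    (hY : A ≤ normalizer (Y : Set G)) : X ⊓ Y ∈ 𝓕 :=
  mem_family_of_le hX inf_le_left (le_normalizer_inf (le_normalizer_of_mem_family hX) hY)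

theorem qcore_mem_family {H : Subgroup G} (hH : H ∈ 𝓕) (q : ℕ) : qcore q H ∈ 𝓕 :=
  mem_family_of_le hH qcore_le ((le_normalizer_of_mem_family hH).trans le_normalizer_qcore)

theorem qcore'_mem_family {H : Subgroup G} (hH : H ∈ 𝓕) (q : ℕ) : qcore' q H ∈ 𝓕 :=
  mem_family_of_le hH qcore'_le ((le_normalizer_of_mem_family hH).trans le_normalizer_qcore')

theorem coprime_zpowers_of_mem (S : Setting p A θ) {X : Subgroup G} (hX : X ∈ 𝓕) {a : G} (ha : a ∈ A) :
    (Nat.card (zpowers a)).Coprime (Nat.card X) := zpowers_card_coprime S.elem ha hX.2.1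

theorem pow_eq_one (S : Setting p A θ) {a : G} (ha : a ∈ A) : a ^ p = 1 := S.elem.2 a ha

theorem coprime_p {X : Subgroup G} (hX : X ∈ 𝓕) : (Nat.card X).Coprime p :=
  (hp.out.coprime_iff_not_dvd.mpr hX.2.1).symm

theorem zpowers_le_normalizer {X : Subgroup G} (hX : X ∈ 𝓕) {a : G} (ha : a ∈ A) :
    zpowers a ≤ normalizer (X : Set G) := zpowers_le.mpr (le_normalizer_of_mem_family hX ha)

/-- commutator subgroups with an element of `A` -/
theorem commutator_mem_family (S : Setting p A θ) {X : Subgroup G} (hX : X ∈ 𝓕) {a : G} (ha : a ∈ A) :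
    ⁅X, zpowers a⁆ ∈ 𝓕 := by
  refine mem_family_of_le hX (commutator_le_of_le_normalizer (zpowers_le_normalizer hX ha)) ?_
  intro b hb
  rw [← conjMap_eq_self_iff, conjMap, map_commutator]
  refine congrArg₂ _ (conjMap_eq_self (le_normalizer_of_mem_family hX hb)) (conjMap_eq_self ?_)
  refine le_normalizer_of_le_centralizer' (zpowers_le.mpr ha) S.elem hb
where
  le_normalizer_of_le_centralizer' {B : Subgroup G} (hB : B ≤ A) (hA : Cfsg.IsElementaryAbelian p A)
      {b : G} (hb : b ∈ A) : b ∈ normalizer (B : Set G) :=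
    Cfsg.Lib.Sft.mem_normalizer_of_conj fun c hc => by
      rw [Cfsg.Lib.Signalizer.comm hA hb (hB hc), mul_inv_cancel_right]; exact hc

/-- the greatest member normalising a non-trivial member -/
theorem exists_greatest (S : Critical p A θ) {U : Subgroup G} (hU : U ∈ 𝓕) (hU1 : U ≠ ⊥) :
    ∃ W ∈ 𝓕, W ≤ normalizer (U : Set G) ∧ ∀ X ∈ 𝓕, X ≤ normalizer (U : Set G) → X ≤ W := by
  set N := normalizer (U : Set G)
  have hAN : A ≤ normalizer (N : Set G) := (le_normalizer_of_mem_family hU).trans le_normalizer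
  obtain ⟨W, hW, hle⟩ := S.sub (fun a => θ a ⊓ N) (fun a _ _ => inf_le_left)
    (fun a ha ha1 => le_normalizer_inf (le_normalizer_of_mem_family (theta_mem_family S.functor ha ha1)) hAN)
    (fun a ha ha1 b hb hb1 => le_inf
      ((inf_le_inf_right _ inf_le_left).trans (S.functor.1.2.2.2 a ha ha1 b hb hb1))
      (inf_le_left.trans inf_le_right))
    (by
      by_contra hc
      push Not at hc
      exact hU1 (S.noNormal U hU fun a ha ha1 => inf_eq_left.mp (hc a ha ha1)))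
  refine ⟨W ⊓ N, mem_family_inf S.toSetting hW hAN, inf_le_right, fun X hX hXN => le_inf ?_ hXN⟩
  refine le_of_lines S.toSetting hX.2.1 (le_normalizer_of_mem_family hX) fun B hB => ?_
  obtain ⟨e, heB, he, he1⟩ := exists_ne_one_of_line hB
  exact (le_inf (inf_centralizer_le hX he he1 heB) (inf_le_left.trans hXN)).trans (hle e he he1)

theorem exists_maximal_member {X : Subgroup G} (hX : X ∈ 𝓕) :
    ∃ M ∈ 𝓕, X ≤ M ∧ ∀ M' ∈ 𝓕, M ≤ M' → M' = M := by
  obtain ⟨M, ⟨hM1, hM2⟩, hmax⟩ := (Set.toFinite {M : Subgroup G | M ∈ 𝓕 ∧ X ≤ M}).exists_maximal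
    ⟨X, hX, le_rfl⟩
  exact ⟨M, hM1, hM2, fun M' h1 h2 => le_antisymm (hmax ⟨h1, hM2.trans h2⟩ h2) h2⟩

/-! ### maximal `q`-members -/

theorem transitivity_or_trivial (S : Setting p A θ) (q : ℕ) [hq : Fact q.Prime] :
    (∃ a ∈ A, a ≠ 1 ∧ q ∣ Nat.card (θ a)) ∨ ∀ X ∈ 𝓕, IsPGroup q X → X = ⊥ := by
  by_cases hqe : ∃ a ∈ A, a ≠ 1 ∧ q ∣ Nat.card (θ a)
  · exact Or.inl hqe
  · push Not at hqe
    refine Or.inr fun X hX hXq => eq_bot_iff.mpr ?_
    refine le_of_lines S hX.2.1 (le_normalizer_of_mem_family hX) fun B hB x hx => ?_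
    obtain ⟨e, heB, he, he1⟩ := exists_ne_one_of_line hB
    exact mem_bot.mpr (eq_one_of_coprime_of_isPGroup hXq
      (Nat.Coprime.symm (hq.out.coprime_iff_not_dvd.mpr (hqe e he he1))) hx.1
      (inf_centralizer_le hX he he1 heB hx))

/-- a maximal `q`-member contains every `T`-invariant `q`-member -/
theorem le_max_of_invariant (S : Setting p A θ) {q : ℕ} [hq : Fact q.Prime] {Q : Subgroup G} (hQ : Q ∈ 𝓕)
    (hQq : IsPGroup q Q) (hQm : ∀ R ∈ 𝓕, IsPGroup q R → Q ≤ R → R = Q) {R : Subgroup G} (hR : R ∈ 𝓕)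
    (hRq : IsPGroup q R) (hRT : T ≤ normalizer (R : Set G)) : R ≤ Q := by
  rcases transitivity_or_trivial S q with hqe | h
  · obtain ⟨M, hM, hMq, hRM, hMm⟩ := exists_max hR hRq
    obtain ⟨c, hc, e⟩ := transitivity S.elem S.card.ge S.functor hqe M hM hMq hMm Q hQ hQq hQm
    rw [← e, ← conjMap_eq_self (hRT hc)]
    exact conjMap_mono hRM
  · exact (h R hR hRq).le.trans bot_le

theorem exists_max_member (q : ℕ) [Fact q.Prime] :
    ∃ Q ∈ 𝓕, IsPGroup q Q ∧ ∀ R ∈ 𝓕, IsPGroup q R → Q ≤ R → R = Q := by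
  obtain ⟨Q, h1, h2, -, h3⟩ := exists_max (p := p) (A := A) (θ := θ) (q := q) bot_mem_family IsPGroup.of_bot
  exact ⟨Q, h1, h2, h3⟩

/-! ### the good subgroup -/

/-- the join of the `O_q(θ e)`, `e` a non-identity element of `B` -/
def coreJoin (q : ℕ) (A : Subgroup G) (θ : G → Subgroup G) (B : Subgroup G) : Subgroup G :=
  ⨆ e : {e : G // e ∈ B ∧ e ∈ A ∧ e ≠ 1}, qcore q (θ e.1)

/-- the subgroup `P_q` -/
def good (p q : ℕ) (A : Subgroup G) (θ : G → Subgroup G) : Subgroup G :=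
  ⨅ B : {B : Subgroup G // IsLine p A B}, coreJoin q A θ B.1

theorem qcore_le_coreJoin {q : ℕ} {B : Subgroup G} {e : G} (heB : e ∈ B) (he : e ∈ A) (he1 : e ≠ 1) :
    qcore q (θ e) ≤ coreJoin q A θ B :=
  le_iSup (fun e : {e : G // e ∈ B ∧ e ∈ A ∧ e ≠ 1} => qcore q (θ e.1)) ⟨e, heB, he, he1⟩

theorem good_le_coreJoin {q : ℕ} {B : Subgroup G} (hB : IsLine p A B) :
    good p q A θ ≤ coreJoin q A θ B :=
  iInf_le (fun B : {B : Subgroup G // IsLine p A B} => coreJoin q A θ B.1) ⟨B, hB⟩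

theorem mem_normalizer_iSup {ι : Sort*} (f : ι → Subgroup G) {g : G}
    (h : ∀ i, g ∈ normalizer (f i : Set G)) : g ∈ normalizer ((⨆ i, f i : Subgroup G) : Set G) := by
  rw [← conjMap_eq_self_iff, conjMap, Subgroup.map_iSup]
  exact iSup_congr fun i => conjMap_eq_self (h i)

theorem mem_normalizer_iInf {ι : Sort*} (f : ι → Subgroup G) {g : G}
    (h : ∀ i, g ∈ normalizer (f i : Set G)) : g ∈ normalizer ((⨅ i, f i : Subgroup G) : Set G) := by
  refine Cfsg.Lib.Sft.mem_normalizer_of_conj fun x hx => mem_iInf.mpr fun i => ?_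
  exact (mem_normalizer_iff.mp (h i) x).mp (mem_iInf.mp hx i)

theorem A_le_normalizer_coreJoin (S : Setting p A θ) {q : ℕ} (B : Subgroup G) :
    A ≤ normalizer (coreJoin q A θ B : Set G) := fun _ hb => mem_normalizer_iSup _ fun e =>
  le_normalizer_qcore (le_normalizer_of_mem_family (theta_mem_family S.functor e.2.2.1 e.2.2.2) hb)

theorem T_le_normalizer_coreJoin (S : Setting p A θ) {q : ℕ} (B : Subgroup G) :
    T ≤ normalizer (coreJoin q A θ B : Set G) := fun _ hg => mem_normalizer_iSup _ fun e =>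
  le_normalizer_qcore (le_normalizer (inf_le_theta S e.2.2.1 e.2.2.2 hg))

theorem coreJoin_le (S : Setting p A θ) {q : ℕ} [Fact q.Prime] {Q : Subgroup G} (hQ : Q ∈ 𝓕)
    (hQq : IsPGroup q Q) (hQm : ∀ R ∈ 𝓕, IsPGroup q R → Q ≤ R → R = Q) (B : Subgroup G) :
    coreJoin q A θ B ≤ Q :=
  iSup_le fun e => le_max_of_invariant S hQ hQq hQm
    (qcore_mem_family (theta_mem_family S.functor e.2.2.1 e.2.2.2) q) isPGroup_qcore
    ((inf_le_theta S e.2.2.1 e.2.2.2).trans (le_normalizer.trans le_normalizer_qcore))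

theorem isPGroup_coreJoin (S : Setting p A θ) {q : ℕ} [Fact q.Prime] (B : Subgroup G) :
    IsPGroup q (coreJoin q A θ B) := by
  obtain ⟨Q, hQ, hQq, hQm⟩ := exists_max_member (p := p) (A := A) (θ := θ) q
  exact hQq.to_le (coreJoin_le S hQ hQq hQm B)

theorem good_le (S : Setting p A θ) {q : ℕ} [Fact q.Prime] {Q : Subgroup G} (hQ : Q ∈ 𝓕)
    (hQq : IsPGroup q Q) (hQm : ∀ R ∈ 𝓕, IsPGroup q R → Q ≤ R → R = Q) : good p q A θ ≤ Q :=
  (good_le_coreJoin (isLine_top S)).trans (coreJoin_le S hQ hQq hQm A)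

theorem isPGroup_good (S : Setting p A θ) {q : ℕ} [Fact q.Prime] : IsPGroup q (good p q A θ) :=
  (isPGroup_coreJoin S A).to_le (good_le_coreJoin (isLine_top S))

theorem A_le_normalizer_good (S : Setting p A θ) {q : ℕ} : A ≤ normalizer (good p q A θ : Set G) :=
  fun _ hb => mem_normalizer_iInf _ fun B => A_le_normalizer_coreJoin S B.1 hb

theorem T_le_normalizer_good (S : Setting p A θ) {q : ℕ} : T ≤ normalizer (good p q A θ : Set G) :=
  fun _ hb => mem_normalizer_iInf _ fun B => T_le_normalizer_coreJoin S B.1 hb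

theorem good_mem_family (S : Setting p A θ) {q : ℕ} [Fact q.Prime] : good p q A θ ∈ 𝓕 := by
  obtain ⟨Q, hQ, hQq, hQm⟩ := exists_max_member (p := p) (A := A) (θ := θ) q
  exact mem_family_of_le hQ (good_le S hQ hQq hQm) (A_le_normalizer_good S)

theorem le_normalizer_coreJoin {X : Subgroup G} (hX : X ∈ 𝓕) {q : ℕ} (B : Subgroup G) :
    X ⊓ centralizer (B : Set G) ≤ normalizer (coreJoin q A θ B : Set G) := fun _ hg =>
  mem_normalizer_iSup _ fun e => le_normalizer_qcore (le_normalizer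
    (inf_centralizer_le hX e.2.2.1 e.2.2.2 e.2.1 hg))

/-- the elements `k` with `[z, k] ∈ R` -/
def commInto (R : Subgroup G) (z : G) : Subgroup G where
  carrier := {k | k ∈ normalizer (R : Set G) ∧ ⁅z, k⁆ ∈ R}
  one_mem' := ⟨one_mem _, by simp⟩
  mul_mem' := by
    rintro a b ⟨ha, ha'⟩ ⟨hb, hb'⟩
    refine ⟨mul_mem ha hb, ?_⟩
    rw [show ⁅z, a * b⁆ = ⁅z, a⁆ * (a * ⁅z, b⁆ * a⁻¹) by simp only [commutatorElement_def]; group]
    exact mul_mem ha' ((mem_normalizer_iff.mp ha _).mp hb')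
  inv_mem' := by
    rintro a ⟨ha, ha'⟩
    refine ⟨inv_mem ha, ?_⟩
    rw [show ⁅z, a⁻¹⁆ = a⁻¹ * ⁅z, a⁆⁻¹ * a by simp only [commutatorElement_def]; group]
    exact (mem_normalizer_iff''.mp ha _).mp (inv_mem ha')

theorem commutatorElement_mem_right {Y : Subgroup G} {z k : G} (hz : z ∈ Y)
    (hk : k ∈ normalizer (Y : Set G)) : ⁅z, k⁆ ∈ Y := by
  rw [commutatorElement_def, mul_assoc, mul_assoc, ← mul_assoc k]
  exact mul_mem hz ((mem_normalizer_iff.mp hk _).mp (inv_mem hz))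

/-- a criterion for lying in the `q`-core of a member -/
theorem mem_qcore_of_lines (S : Setting p A θ) {q : ℕ} [Fact q.Prime] {H : Subgroup G} (hH : H ∈ 𝓕)
    {z : G} (hz : z ∈ H) {Y₀ : Subgroup G} (hY₀ : IsPGroup q Y₀) (hzY₀ : z ∈ Y₀)
    (h : ∀ B, IsLine p A B →
      ∃ Y : Subgroup G, IsPGroup q Y ∧ z ∈ Y ∧ H ⊓ centralizer (B : Set G) ≤ normalizer (Y : Set G)) :
    z ∈ qcore q H := by
  refine mem_qcore_of_commutators hH.1 hz hY₀ hzY₀ fun k hk => ?_
  have hle : qqcore q H ≤ commInto (qcore q H) z := by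
    refine le_of_lines S (fun hd => hH.2.1 (hd.trans (card_dvd_of_le qqcore_le)))
      ((le_normalizer_of_mem_family hH).trans le_normalizer_qqcore) fun B hB k hk => ?_
    have hkH : k ∈ H := qqcore_le hk.1
    refine ⟨le_normalizer_qcore (le_normalizer hkH), ?_⟩
    obtain ⟨Y, hY, hzY, hn⟩ := h B hB
    refine mem_qcore_of_mem_qqcore ?_ hY (commutatorElement_mem_right hzY (hn ⟨hkH, hk.2⟩))
    rw [commutatorElement_def]
    exact mul_mem ((mem_normalizer_iff.mp (le_normalizer_qqcore (le_normalizer hz)) k).mp hk.1)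
      (inv_mem hk.1)
  exact (hle hk).2

theorem good_inf_le_qcore (S : Setting p A θ) {q : ℕ} [Fact q.Prime] {H : Subgroup G} (hH : H ∈ 𝓕) :
    good p q A θ ⊓ H ≤ qcore q H := fun _ hz =>
  mem_qcore_of_lines S hH hz.2 (isPGroup_good S) hz.1 fun B hB =>
    ⟨coreJoin q A θ B, isPGroup_coreJoin S B, good_le_coreJoin hB hz.1, le_normalizer_coreJoin hH B⟩

theorem good_inf_centralizer_le (S : Setting p A θ) {q : ℕ} [Fact q.Prime] {e : G} (he : e ∈ A)
    (he1 : e ≠ 1) : good p q A θ ⊓ centralizer {e} ≤ qcore q (θ e) :=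
  le_trans (le_inf inf_le_left ((good_mem_family S).2.2.2 e he he1))
    (good_inf_le_qcore S (theta_mem_family S.functor he he1))

/-- elements in the cores along a line are good -/
theorem mem_good_of_line (S : Setting p A θ) {q : ℕ} {D : Subgroup G} (hD : IsLine p A D) {z : G}
    (h : ∀ d ∈ D, d ∈ A → d ≠ 1 → z ∈ qcore q (θ d)) : z ∈ good p q A θ := by
  refine mem_iInf.mpr fun B => ?_
  obtain ⟨e, heB, heD, heA, he1⟩ := exists_meet S B.2 hD
  exact qcore_le_coreJoin heB heA he1 (h e heD heA he1)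

theorem good_commute (S : Setting p A θ) {q r : ℕ} [Fact q.Prime] [Fact r.Prime] (hqr : q ≠ r) :
    good p q A θ ≤ centralizer (good p r A θ : Set G) := by
  refine le_of_lines S (good_mem_family S).2.1 (A_le_normalizer_good S) fun D hD x hx => ?_
  have hle : good p r A θ ≤ centralizer ({x} : Set G) := by
    refine le_of_lines S (good_mem_family S).2.1 (A_le_normalizer_good S) fun B hB y hy => ?_
    obtain ⟨e, heB, heD, heA, he1⟩ := exists_meet S hB hD
    refine mem_centralizer_singleton_iff.mpr (commute_qcore (Ne.symm hqr) (K := θ e)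
      (good_inf_centralizer_le S heA he1
        ⟨hy.1, mem_centralizer_singleton_iff.mpr (mem_centralizer_iff.mp hy.2 e heB).symm⟩)
      (good_inf_centralizer_le S heA he1
        ⟨hx.1, mem_centralizer_singleton_iff.mpr (mem_centralizer_iff.mp hx.2 e heD).symm⟩))
  exact mem_centralizer_iff.mpr fun y hy => mem_centralizer_singleton_iff.mp (hle hy)

end Cfsg.Lib.Sft
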